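import Cfsg.Agent.Lib.MTwentyFour.Search.Facts

/-!
Soundness of the degree search: exactly one character of degree 23.
-/

set_option autoImplicit false

namespace Cfsg.Lib.MTwentyFour.Search

def membersM (M : Multiset ℕ) (e : ℕ) : Multiset ℕ := if e = 0 then M else e ::ₘ e ::ₘ M

/-- The conditions on a block: the three relations and the exceptional pair at 23. -/
structure BlockData (p f : ℕ) (M : Multiset ℕ) (e : ℕ) : Prop where
  res : ∀ d ∈ M, d % p = f % p ∨ d % p = p - f % p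
  rel_deg : (M.map fun d => sgnAt p f d * (d : ℤ)).sum + excAt p e * (e : ℤ) = 0
  rel_eleven : (M.map fun d => sgnAt p f d * v11 d).sum + excAt p e * v11 e = 0
  rel_big : (M.map fun d => sgnAt p f d * w23 d).sum + excAt p e * w23 e = 0
  pair : M.filter (fun d => isExc d = true) = 0 ∨ ∃ d, M.filter (fun d => isExc d = true) = {d, d}

/-- The condition on the exceptional degree of a block. -/
def ExcDeg (p a e : ℕ) : Prop := isExc e = false ∧ (e % p = a ∨ e % p = p - a)

theorem relSum_eq (p f : ℕ) (g : ℕ → ℤ) : ∀ l : List ℕ,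
    relSum p f g l = ((l : Multiset ℕ).map fun d => sgnAt p f d * g d).sum
  | [] => rfl
  | d :: l => by
    rw [relSum, relSum_eq p f g l, ← Multiset.cons_coe, Multiset.map_cons, Multiset.sum_cons]

theorem excPair_of {l : List ℕ} {F : Multiset ℕ} (hl : (l : Multiset ℕ) = F)
    (h : F = 0 ∨ ∃ d, F = {d, d}) : excPair l = true := by
  rcases h with rfl | ⟨d, rfl⟩
  · rw [(Multiset.coe_eq_zero l).1 hl]; rfl
  · have hperm : l.Perm (List.replicate 2 d) := Multiset.coe_eq_coe.1 hl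
    rw [List.perm_replicate.1 hperm]
    simp [excPair, List.replicate]

theorem blockOk_of {p f : ℕ} {M : Multiset ℕ} {e : ℕ} (h : BlockData p f M e) {l : List ℕ}
    (hl : (l : Multiset ℕ) = M) : blockOk p f l e = true := by
  subst hl
  simp only [blockOk, Bool.and_eq_true, beq_iff_eq, relSum_eq]
  refine ⟨⟨⟨h.rel_deg, h.rel_eleven⟩, h.rel_big⟩, excPair_of ?_ h.pair⟩
  rw [Multiset.filter_coe]
  simp

theorem members_coe (r : Row) : (r.members : Multiset ℕ) = membersM r.ne r.e := by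
  by_cases he : r.e = 0
  · simp [Row.members, membersM, he]
  · simp [Row.members, membersM, he]

/-- A block is among the options of a list that covers its shape. -/
theorem exists_row {p f n : ℕ} {pre es : List ℕ} {rows : List Row} (hc : covers p f n pre es rows = true)
    {M' : Multiset ℕ} {e : ℕ} (hcard : Multiset.card M' = n) (hmem : ∀ d ∈ M', d ∈ cand p f) (he : e ∈ es)
    (h : BlockData p f ((pre : Multiset ℕ) + M') e) :
    ∃ r ∈ rows, (r.ne : Multiset ℕ) = (pre : Multiset ℕ) + M' ∧ r.e = e := by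
  obtain ⟨l, hl, hP⟩ := allComb_sound n _ _ hc M' hcard hmem
  have hP' := List.all_eq_true.1 hP e he
  have hle : ((pre ++ l : List ℕ) : Multiset ℕ) = (pre : Multiset ℕ) + M' := by rw [← hl, Multiset.coe_add]
  rw [blockOk_of h hle, Bool.not_true, Bool.false_or] at hP'
  obtain ⟨r, hr, hr'⟩ := List.any_eq_true.1 hP'
  simp only [Row.isOpt, Bool.and_eq_true, beq_iff_eq] at hr'
  exact ⟨r, hr, by rw [hr'.1, hle], hr'.2⟩

theorem exists_row_twice {p f n : ℕ} {rows : List Row} (hc : coversTwice p f n rows = true) {M : Multiset ℕ}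
    (hcard : Multiset.card M = n) (hmem : ∀ d ∈ M, d ∈ cand p f) (h : BlockData p f M 0) :
    ∃ r ∈ rows, (r.members : Multiset ℕ) = M + M := by
  obtain ⟨l, hl, hP⟩ := allComb_sound n _ _ hc M hcard hmem
  rw [blockOk_of h hl, Bool.not_true, Bool.false_or] at hP
  obtain ⟨r, hr, hr'⟩ := List.any_eq_true.1 hP
  simp only [Row.isOpt, Bool.and_eq_true, beq_iff_eq] at hr'
  refine ⟨r, hr, ?_⟩
  rw [members_coe, membersM, if_pos hr'.2, hr'.1, ← hl, Multiset.coe_add]

/-- The weighted sum of a root of degree `f` at 7. -/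
def mZ (f : ℕ) (c : ℤ) (M : Multiset ℕ) (e : ℕ) : ℤ :=
  (f : ℤ) * f * ((M.map fun d => v11 d * ((ord24 / d : ℕ) : ℤ)).sum + c * (v11 e * ((ord24 / e : ℕ) : ℤ)))

theorem zSum_eq (f : ℕ) (c : ℤ) (l : List ℕ) (e : ℕ) : zSum f c l e = mZ f c l e := by
  simp [zSum, mZ]

theorem countP_le_of_mem {T : Multiset ℕ} {p : ℕ → Prop} [DecidablePred p] {d : ℕ} (h : p d) :
    T.count d ≤ T.countP p := by
  induction T using Multiset.induction with
  | empty => simp
  | cons a T ih =>
    rw [Multiset.count_cons, Multiset.countP_cons]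
    by_cases ha : d = a
    · subst ha; simp [h]; exact ih
    · rw [if_neg ha]; omega

variable {T : Multiset ℕ}

/-- The part of the degrees divisible by 35 is among the tabulated ones. -/
theorem rest_mem (hdeg : ∀ d ∈ T, d ∈ degs) (hq : (T.map fun d => d * d).sum ≤ ord24)
    (h11 : T.countP (cnt11 · = true) = 11) (h23 : T.countP (cnt23 · = true) = 11)
    (hexc : ∃ d, T.filter (fun d => isExc d = true) = {d, d}) :
    let s := statOf (T.filter fun d => 35 ∣ d)
    (s.q, s.n11, s.n23, s.nB) ∈ restLook s.q ∧ s.c23 = 0 := by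
  intro s
  set F := T.filter fun d => 35 ∣ d with hF
  have hFsub : F ≤ T := Multiset.filter_le _ _
  have hdeg' : ∀ d ∈ F, d ∈ restDegs := fun d hd => by
    have h := List.all_eq_true.1 rest_degs d (hdeg d (Multiset.mem_of_le hFsub hd))
    have h35 : d % 35 = 0 := Nat.mod_eq_zero_of_dvd (Multiset.mem_filter.1 hd).2
    simpa [h35] using h
  obtain ⟨m₁, hm₁⟩ : ∃ m, m = F.count 770 := ⟨_, rfl⟩
  obtain ⟨m₂, hm₂⟩ : ∃ m, m = F.count 1540 := ⟨_, rfl⟩
  obtain ⟨m₃, hm₃⟩ : ∃ m, m = F.count 4830 := ⟨_, rfl⟩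
  obtain ⟨m₄, hm₄⟩ : ∃ m, m = F.count 8855 := ⟨_, rfl⟩
  obtain ⟨m₅, hm₅⟩ : ∃ m, m = F.count 10395 := ⟨_, rfl⟩
  obtain ⟨m₆, hm₆⟩ : ∃ m, m = F.count 12880 := ⟨_, rfl⟩
  have hFeq : F = Multiset.replicate m₁ 770 + Multiset.replicate m₂ 1540 + Multiset.replicate m₃ 4830 +
      Multiset.replicate m₄ 8855 + Multiset.replicate m₅ 10395 + Multiset.replicate m₆ 12880 := by
    ext d
    simp only [Multiset.count_add, Multiset.count_replicate, hm₁, hm₂, hm₃, hm₄, hm₅, hm₆]
    by_cases hd : d ∈ restDegs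
    · simp only [restDegs, List.mem_cons, List.not_mem_nil, or_false] at hd
      rcases hd with rfl | rfl | rfl | rfl | rfl | rfl <;> simp
    · rw [Multiset.count_eq_zero.2 fun h => hd (hdeg' d h)]
      simp only [restDegs, List.mem_cons, List.not_mem_nil, or_false, not_or] at hd
      simp [Ne.symm hd.1, Ne.symm hd.2.1, Ne.symm hd.2.2.1, Ne.symm hd.2.2.2.1, Ne.symm hd.2.2.2.2.1,
        Ne.symm hd.2.2.2.2.2]
  have hsq : s.q = m₁ * 592900 + m₂ * 2371600 + m₃ * 23328900 + m₄ * 78411025 + m₅ * 108056025 +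
      m₆ * 165894400 := by
    show (F.map fun d => d * d).sum = _
    simp only [hFeq, Multiset.map_add, Multiset.sum_add, Multiset.map_replicate,
      Multiset.sum_replicate, smul_eq_mul]
  have hcount : ∀ (p : ℕ → Bool), F.countP (p · = true) =
      (if p 770 then m₁ else 0) + (if p 1540 then m₂ else 0) + (if p 4830 then m₃ else 0) +
        (if p 8855 then m₄ else 0) + (if p 10395 then m₅ else 0) + (if p 12880 then m₆ else 0) := by
    intro p
    rw [hFeq]
    simp only [Multiset.countP_add, ← Multiset.coe_replicate, Multiset.coe_countP, List.countP_replicate]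
    simp
  have hle : ∀ (p : ℕ → Bool), F.countP (p · = true) ≤ T.countP (p · = true) := fun p =>
    Multiset.countP_le_of_le _ hFsub
  have hFq : s.q ≤ ord24 := by
    refine le_trans ?_ hq
    obtain ⟨R, hR⟩ := Multiset.le_iff_exists_add.1 hFsub
    rw [hR, Multiset.map_add, Multiset.sum_add]
    exact Nat.le_add_right _ _
  have hord : ord24 = 244823040 := rfl
  obtain ⟨b, hb⟩ := hexc
  have hB2 : T.countP (isExc · = true) = 2 := by rw [Multiset.countP_eq_card_filter, hb]; rfl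
  have hm1 : m₁ = 0 ∨ m₁ = 2 := by
    have h : m₁ = (T.filter fun d => isExc d = true).count 770 := by
      rw [hm₁, hF, Multiset.count_filter_of_pos (p := fun d => 35 ∣ d) (show (35 : ℕ) ∣ 770 by norm_num),
        Multiset.count_filter_of_pos (p := fun d => isExc d = true) (show isExc 770 = true by decide)]
    rw [h, hb]
    by_cases hb' : b = 770
    · simp [hb']
    · simp [hb', Ne.symm hb']
  have e11 : F.countP (cnt11 · = true) = m₃ + m₆ := by rw [hcount]; simp [cnt11]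
  have e23 : F.countP (cnt23 · = true) = m₂ + m₅ := by rw [hcount]; simp [cnt23, isExc]
  have eB : F.countP (isExc · = true) = m₁ := by rw [hcount]; simp [isExc]
  have l11 := hle cnt11
  have l23 := hle cnt23
  have lB := hle isExc
  rw [h11, e11] at l11
  rw [h23, e23] at l23
  rw [hB2, eB] at lB
  refine ⟨?_, ?_⟩
  · have hr := rest_complete
    simp only [List.all_eq_true, List.mem_range] at hr
    have hc := hr m₁ (by omega) m₂ (by omega) m₃ (by omega) m₄ (by omega) m₅ (by omega) m₆ (by omega)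
    simp only [restCheck, List.filter_cons, List.filter_nil, cnt11, cnt23, isExc] at hc
    norm_num [Nat.ble_eq] at hc
    show (s.q, F.countP (cnt11 · = true), F.countP (cnt23 · = true), F.countP (isExc · = true)) ∈ restLook s.q
    rw [e11, e23, eB, hsq]
    rw [hsq] at hFq
    rcases hc with hc | hc
    · exfalso; simp only [← Bool.not_eq_true, Nat.ble_eq] at hc; omega
    · exact hc
  · exact Multiset.count_eq_zero.2 fun h => absurd (hdeg' _ h) (by decide)

theorem rows_spec {L : List Row} {g : Row → Bool} (h : L.all g = true) {r : Row} (hr : r ∈ L) : g r = true :=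
  List.all_eq_true.1 h r hr

/-- The search: a degree multiset with the block structures at 7 and 5 has one 23 or breaks the
integrality at an element of order 7. -/
theorem count_eq_one (hdvd : ∀ d ∈ T, d ∣ ord24) (hok : ∀ d ∈ T, degOk d = true) (hone : T.count 1 = 1)
    (hq : (T.map fun d => d * d).sum = ord24) (h11 : T.countP (cnt11 · = true) = 11)
    (h23 : T.countP (cnt23 · = true) = 11) (hexc : ∃ d, T.filter (fun d => isExc d = true) = {d, d})
    {A B C : Multiset ℕ} {a b c : ℕ}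
    (hA : BlockData 7 1 (1 ::ₘ A) a) (hAc : Multiset.card A = 2) (ha : ExcDeg 7 3 a)
    (hB : BlockData 7 1 B b) (hBc : Multiset.card B = 3) (hb : ExcDeg 7 3 b)
    (hC : BlockData 7 2 C c) (hCc : Multiset.card C = 3) (hc : ExcDeg 7 1 c)
    {P Q Wm : Multiset ℕ} (hP : BlockData 5 1 (1 ::ₘ P) 0) (hPc : Multiset.card P = 4)
    (hQ : BlockData 5 3 Q 0) (hQc : Multiset.card Q = 5)
    (hW : (∃ W w, BlockData 5 2 W w ∧ Multiset.card W = 2 ∧ ExcDeg 5 1 w ∧ Wm = membersM W w) ∨
      (∃ W, BlockData 5 1 W 0 ∧ Multiset.card W = 5 ∧ Wm = W + W))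
    (h7 : T.filter (fun d => ¬ 7 ∣ d) = membersM (1 ::ₘ A) a + membersM B b + membersM C c)
    (h5 : T.filter (fun d => ¬ 5 ∣ d) = membersM (1 ::ₘ P) 0 + membersM Q 0 + Wm)
    (hz₁ : (1764 : ℤ) ∣ mZ 1 (-3) (1 ::ₘ A) a + mZ 1 (-3) B b + mZ 2 (-3) C c)
    (hz₂ : (1764 : ℤ) ∣ mZ 1 4 (1 ::ₘ A) a + mZ 1 4 B b + mZ 2 4 C c) :
    T.count 23 = 1 := by
  have hdeg : ∀ d ∈ T, d ∈ degs := fun d hd => by
    have hmem : d ∈ dvdList := by
      obtain ⟨x, g, hx, hg, rfl⟩ := Nat.dvd_mul.1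
        (show d ∣ 2 ^ 10 * 3 ^ 3 * 5 ^ 1 * 7 ^ 1 * 11 ^ 1 * 23 ^ 1 by norm_num; exact hdvd d hd)
      obtain ⟨x₅, e, hx₅, he, rfl⟩ := Nat.dvd_mul.1 hx
      obtain ⟨x₄, f, hx₄, hf, rfl⟩ := Nat.dvd_mul.1 hx₅
      obtain ⟨x₃, i, hx₃, hi, rfl⟩ := Nat.dvd_mul.1 hx₄
      obtain ⟨x₂, j, hx₂, hj, rfl⟩ := Nat.dvd_mul.1 hx₃
      obtain ⟨k₁, hk₁, rfl⟩ := (Nat.dvd_prime_pow Nat.prime_two).1 hx₂
      obtain ⟨k₂, hk₂, rfl⟩ := (Nat.dvd_prime_pow Nat.prime_three).1 hj
      obtain ⟨k₃, hk₃, rfl⟩ := (Nat.dvd_prime_pow Nat.prime_five).1 hi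
      obtain ⟨k₄, hk₄, rfl⟩ := (Nat.dvd_prime_pow (show Nat.Prime 7 by norm_num)).1 hf
      obtain ⟨k₅, hk₅, rfl⟩ := (Nat.dvd_prime_pow (show Nat.Prime 11 by norm_num)).1 he
      obtain ⟨k₆, hk₆, rfl⟩ := (Nat.dvd_prime_pow (show Nat.Prime 23 by norm_num)).1 hg
      simp only [dvdList, List.mem_flatMap, List.mem_map, List.mem_range]
      exact ⟨k₁, by omega, k₂, by omega, k₃, by omega, k₄, by omega, k₅, by omega, k₆, by omega, rfl⟩
    have h := List.all_eq_true.1 degs_complete d hmem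
    rw [hok d hd, Bool.not_true, Bool.false_or] at h
    simpa using h
  have hW_exc : ∀ M e, e ≠ 0 → e ∈ membersM M e := fun M e h => by simp [membersM, h]
  have hsub : ∀ M e, ∀ d ∈ M, d ∈ membersM M e := fun M e d hd => by
    unfold membersM; split_ifs <;> simp [hd]
  have hT7 : ∀ d, d ∈ membersM (1 ::ₘ A) a + membersM B b + membersM C c → d ∈ T := fun d hd =>
    (Multiset.mem_filter.1 (h7 ▸ hd)).1
  have hT5 : ∀ d, d ∈ membersM (1 ::ₘ P) 0 + membersM Q 0 + Wm → d ∈ T := fun d hd =>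
    (Multiset.mem_filter.1 (h5 ▸ hd)).1
  -- no further 1 in the blocks
  have hc7 := congrArg (Multiset.count 1) h7
  have hc5 := congrArg (Multiset.count 1) h5
  rw [Multiset.count_filter_of_pos (p := fun d => ¬ 7 ∣ d) (by norm_num : ¬ 7 ∣ 1), hone, Multiset.count_add, Multiset.count_add] at hc7
  rw [Multiset.count_filter_of_pos (p := fun d => ¬ 5 ∣ d) (by norm_num : ¬ 5 ∣ 1), hone, Multiset.count_add, Multiset.count_add] at hc5
  have hle : ∀ (M : Multiset ℕ) (e : ℕ), M.count 1 ≤ (membersM M e).count 1 := fun M e => by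
    refine Multiset.count_le_of_le _ ?_
    unfold membersM; split_ifs
    · exact le_rfl
    · exact le_trans (Multiset.le_cons_self _ _) (Multiset.le_cons_self _ _)
  have h1A := hle (1 ::ₘ A) a
  have h1P := hle (1 ::ₘ P) 0
  rw [Multiset.count_cons_self] at h1A h1P
  have h1B := hle B b
  have h1C := hle C c
  have h1Q := hle Q 0
  have hnot : ∀ {M : Multiset ℕ}, M.count 1 = 0 → ∀ d ∈ M, d ≠ 1 := fun h d hd e =>
    Multiset.count_eq_zero.1 h (e ▸ hd)
  have hge : ∀ d ∈ T, d ≠ 1 → 2 ≤ d := fun d hd h1 => by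
    rcases Nat.eq_zero_or_pos d with rfl | h0
    · exact absurd (Nat.eq_zero_of_zero_dvd (hdvd 0 hd)) (by norm_num)
    · omega
  have hcand : ∀ {p f : ℕ} {M : Multiset ℕ}, (∀ d ∈ M, d ∈ T) → M.count 1 = 0 →
      (∀ d ∈ M, d % p = f % p ∨ d % p = p - f % p) → ∀ d ∈ M, d ∈ cand p f := by
    intro p f M hM h1 hres d hd
    simp only [cand, List.mem_filter, Bool.and_eq_true, Bool.or_eq_true, beq_iff_eq, Nat.ble_eq]
    exact ⟨hdeg d (hM d hd), hge d (hM d hd) (hnot h1 d hd), hres d hd⟩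
  have hexc_mem : ∀ {p q e : ℕ}, 1 < p → 0 < q → q < p → ExcDeg p q e → (e ≠ 0 → e ∈ T) → e ≠ 1 →
      e ∈ excCand p q := by
    intro p q e hp hq0 hqp he hmem he1
    have he0 : e ≠ 0 := fun h => by
      rcases he.2 with h' | h' <;> rw [h, Nat.zero_mod] at h' <;> omega
    simp only [excCand, List.mem_filter, Bool.and_eq_true, Bool.or_eq_true, beq_iff_eq, Nat.ble_eq,
      Bool.not_eq_true']
    exact ⟨hdeg e (hmem he0), ⟨hge e (hmem he0) he1, he.1⟩, he.2⟩
  -- the rows
  obtain ⟨ra, hra, hane, hae⟩ := exists_row (M' := A) covers_A hAc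
    (hcand (fun d hd => hT7 d (by simp [hsub (1 ::ₘ A) a d (Multiset.mem_cons_of_mem hd)])) (by omega)
      fun d hd => hA.res d (Multiset.mem_cons_of_mem hd))
    (hexc_mem (by norm_num) (by norm_num) (by norm_num) ha
      (fun h => hT7 a (by simp [hW_exc (1 ::ₘ A) a h])) (fun e => by have := ha.2; rw [e] at this; norm_num at this))
    (by rw [Multiset.coe_singleton, Multiset.singleton_add]; exact hA)
  obtain ⟨rb₀, hrb₀, hbne, hbe⟩ := exists_row (M' := B) covers_B hBc
    (hcand (fun d hd => hT7 d (by simp [hsub B b d hd])) (by omega) hB.res)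
    (hexc_mem (by norm_num) (by norm_num) (by norm_num) hb
      (fun h => hT7 b (by simp [hW_exc B b h])) (fun e => by have := hb.2; rw [e] at this; norm_num at this))
    (by rw [Multiset.coe_nil, zero_add]; exact hB)
  obtain ⟨rc, hrc, hcne, hce⟩ := exists_row (M' := C) covers_C hCc
    (hcand (fun d hd => hT7 d (by simp [hsub C c d hd])) (by omega) hC.res)
    (hexc_mem (by norm_num) (by norm_num) (by norm_num) hc
      (fun h => hT7 c (by simp [hW_exc C c h])) (fun e => by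
        have hlt : (membersM C c).count 1 = 0 := by omega
        exact Multiset.count_eq_zero.1 hlt (e ▸ hW_exc C c (by rw [e]; norm_num))))
    (by rw [Multiset.coe_nil, zero_add]; exact hC)
  obtain ⟨rp, hrp, hpne, hpe⟩ := exists_row (M' := P) covers_P hPc
    (hcand (fun d hd => hT5 d (by simp [hsub (1 ::ₘ P) 0 d (Multiset.mem_cons_of_mem hd)])) (by omega)
      fun d hd => hP.res d (Multiset.mem_cons_of_mem hd))
    (List.mem_singleton.2 rfl) (by rw [Multiset.coe_singleton, Multiset.singleton_add]; exact hP)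
  obtain ⟨rq₀, hrq₀, hqne, hqe⟩ := exists_row (M' := Q) covers_Q hQc
    (hcand (fun d hd => hT5 d (by simp [hsub Q 0 d hd])) (by omega) hQ.res)
    (List.mem_singleton.2 rfl) (by rw [Multiset.coe_nil, zero_add]; exact hQ)
  obtain ⟨ws, rw', hrw, hsearch, hwg, hwm⟩ : ∃ ws, ∃ r ∈ ws, (∀ x ∈ optsA, searchAt ws x = true) ∧
      goodFive r = true ∧ (r.members : Multiset ℕ) = Wm := by
    rcases hW with ⟨W, w, hWd, hWc, hw, rfl⟩ | ⟨W, hWd, hWc, rfl⟩
    · have h1W := hle W w
      obtain ⟨r, hr, hrne, hre⟩ := exists_row (M' := W) covers_W hWc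
        (hcand (fun d hd => hT5 d (by simp [hsub W w d hd])) (by omega) hWd.res)
        (hexc_mem (by norm_num) (by norm_num) (by norm_num) hw
          (fun h => hT5 w (by simp [hW_exc W w h])) (fun e => by
            have hlt : (membersM W w).count 1 = 0 := by omega
            exact Multiset.count_eq_zero.1 hlt (e ▸ hW_exc W w (by rw [e]; norm_num))))
        (by rw [Multiset.coe_nil, zero_add]; exact hWd)
      refine ⟨optsW, r, hr, fun x hx => searchAt_W hx, rows_spec good_W hr, ?_⟩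
      rw [members_coe, hrne, hre, Multiset.coe_nil, zero_add]
    · rw [Multiset.count_add] at hc5
      obtain ⟨r, hr, hrm⟩ := exists_row_twice covers_V hWc
        (hcand (fun d hd => hT5 d (by simp [hd])) (by omega) hWd.res) hWd
      exact ⟨optsV, r, hr, fun x hx => searchAt_V hx, rows_spec good_V hr, hrm⟩
  obtain ⟨rb, hrb, hbs⟩ := List.any_eq_true.1 (rows_spec table_B hrb₀)
  obtain ⟨rq, hrq, hqs⟩ := List.any_eq_true.1 (rows_spec table_Q hrq₀)
  rw [Bool.and_eq_true] at hbs hqs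
  obtain ⟨hbm₀, hbne₀, hbe₀⟩ := members_eq_of_same hbs.1
  obtain ⟨hqm₀, -, -⟩ := members_eq_of_same hqs.1
  obtain ⟨a1, a2, a3, as, az₁, az₂⟩ := goodSeven_spec (rows_spec good_A hra)
  obtain ⟨b1, b2, b3, bs, bz₁, bz₂⟩ := goodSeven_spec hbs.2
  obtain ⟨B1, B2, B3, -, -, -⟩ := goodSeven_spec (rows_spec good_B hrb₀)
  obtain ⟨c1, c2, c3, cs, cz₁, cz₂⟩ := goodSeven_spec (rows_spec good_C hrc)
  obtain ⟨p1, p2, p3, ps⟩ := goodFive_spec (rows_spec good_P hrp)
  obtain ⟨q1, q2, q3, qs⟩ := goodFive_spec hqs.2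
  obtain ⟨Q1, Q2, Q3, -⟩ := goodFive_spec (rows_spec good_Q hrq₀)
  obtain ⟨w1, w2, w3, wst⟩ := goodFive_spec hwg
  have h7' : T.filter (fun d => ¬ 7 ∣ d) = (ra.members : Multiset ℕ) + rb.members + rc.members := by
    rw [h7, ← hbm₀, members_coe, members_coe, members_coe, hane, hae, hbne, hbe, hcne, hce,
      Multiset.coe_singleton, Multiset.singleton_add, Multiset.coe_nil, zero_add, zero_add]
  have h5' : T.filter (fun d => ¬ 5 ∣ d) = (rp.members : Multiset ℕ) + rq.members + rw'.members := by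
    rw [h5, ← hqm₀, members_coe rp, members_coe rq₀, hwm, hpne, hpe, hqne, hqe,
      Multiset.coe_singleton, Multiset.singleton_add, Multiset.coe_nil, zero_add]
  have henc : ∀ cs, codesOk cs = true → mEnc cs ra.members * mEnc cs rb.members * mEnc cs rc.members =
      mEnc cs rp.members * mEnc cs rq.members * mEnc cs rw'.members := fun cs h => by
    rw [← mEnc_add, ← mEnc_add, ← mEnc_add, ← mEnc_add, ← h7', ← h5', mEnc_filter h 7 (Or.inr rfl),
      mEnc_filter h 5 (Or.inl rfl)]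
  obtain ⟨hk1, hk2, hk3⟩ := codesOk_one
  have e1 : ra.k1 * rb.k1 * rc.k1 = rp.k1 * rw'.k1 := by
    have h := henc _ hk1
    rw [← a1, ← b1, ← c1, ← p1, ← q1, ← w1] at h
    have hq1 : rq.k1 = 1 := by
      rw [q1, ← hqm₀, ← Q1]
      simpa using rows_spec k1_Q hrq₀
    rw [h, hq1, mul_one]
  have e2 : ra.k2 * rb.k2 * rc.k2 = rp.k2 * rw'.k2 * rq.k2 := by
    have h := henc _ hk2
    rw [← a2, ← b2, ← c2, ← p2, ← q2, ← w2] at h
    rw [h]; ring
  have e3 : rp.k3 * rw'.k3 ∣ rc.k3 := by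
    have h := henc _ hk3
    rw [← a3, ← b3, ← c3, ← p3, ← q3, ← w3] at h
    have hA3 : ra.k3 = 1 := by simpa using rows_spec k3_A hra
    have hB3 : rb.k3 = 1 := by
      rw [b3, ← hbm₀, ← B3]
      simpa using rows_spec k3_B hrb₀
    rw [hA3, hB3, one_mul, one_mul] at h
    exact ⟨rq.k3, by rw [h]; ring⟩
  have hposA : 0 < ra.k1 := a1 ▸ mEnc_pos hk1 _
  have hposC : 0 < rc.k1 := c1 ▸ mEnc_pos hk1 _
  have hposU : 0 < rp.k2 * rw'.k2 := Nat.mul_pos (p2 ▸ mEnc_pos hk2 _) (w2 ▸ mEnc_pos hk2 _)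
  have hr0 : rp.k1 * rw'.k1 / ra.k1 = rb.k1 * rc.k1 := by
    rw [← e1, mul_assoc, Nat.mul_div_cancel_left _ hposA]
  have hs := hsearch ra hra
  simp only [searchAt] at hs
  have hs₁ := List.all_eq_true.1 (List.all_eq_true.1 hs rp hrp) rw' hrw
  have hd1 : rp.k1 * rw'.k1 % ra.k1 = 0 := by rw [← e1, mul_assoc, Nat.mul_mod_right]
  simp only [hd1, beq_self_eq_true, Bool.not_true, Bool.false_or, hr0] at hs₁
  have hs₂ := List.all_eq_true.1 hs₁ rc hrc
  have hd3 : rc.k3 % (rp.k3 * rw'.k3) = 0 := Nat.mod_eq_zero_of_dvd e3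
  have hd1' : rb.k1 * rc.k1 % rc.k1 = 0 := Nat.mul_mod_left _ _
  simp only [hd3, hd1', beq_self_eq_true, Bool.and_self, Bool.not_true, Bool.false_or,
    Nat.mul_div_cancel _ hposC] at hs₂
  have hbk : rb₀.k1 = rb.k1 := by rw [B1, b1, hbm₀]
  rw [hbk] at hrb
  have hs₃ := List.all_eq_true.1 hs₂ rb hrb
  have hd2 : ra.k2 * rb.k2 * rc.k2 % (rp.k2 * rw'.k2) = 0 := by rw [e2, Nat.mul_mod_right]
  have ht2 : ra.k2 * rb.k2 * rc.k2 / (rp.k2 * rw'.k2) = rq.k2 := by
    rw [e2, Nat.mul_div_cancel_left _ hposU]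
  simp only [hd2, ht2, beq_self_eq_true, Bool.not_true, Bool.false_or] at hs₃
  have hqk : rq₀.k2 = rq.k2 := by rw [Q2, q2, hqm₀]
  rw [hqk] at hrq
  have hs₄ := List.all_eq_true.1 hs₃ rq hrq
  simp only [beq_self_eq_true, Bool.not_true, Bool.false_or] at hs₄
  -- the statistics of `T`
  have hsplit : T = T.filter (fun d => ¬ 7 ∣ d) + (T.filter (fun d => ¬ 5 ∣ d)).filter (fun d => 7 ∣ d) +
      T.filter (fun d => 35 ∣ d) := by
    ext d
    simp only [Multiset.count_add, Multiset.count_filter]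
    by_cases h7d : 7 ∣ d
    · by_cases h5d : 5 ∣ d
      · have : 35 ∣ d := (by norm_num : Nat.Coprime 5 7).mul_dvd_of_dvd_of_dvd h5d h7d
        simp [h7d, h5d, this]
      · have : ¬ 35 ∣ d := fun h => h5d ((by norm_num : (5 : ℕ) ∣ 35).trans h)
        simp [h7d, h5d, this]
    · have : ¬ 35 ∣ d := fun h => h7d ((by norm_num : (7 : ℕ) ∣ 35).trans h)
      simp [h7d, this]
  have hstat := congrArg statOf hsplit
  rw [h7', h5', Multiset.filter_add, Multiset.filter_add, statOf_add, statOf_add, statOf_add, statOf_add,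
    statOf_add, statOf_add, ← as, ← bs, ← cs, ← ps, ← qs, ← wst] at hstat
  obtain ⟨hrest, hc23⟩ := rest_mem hdeg hq.le h11 h23 hexc
  set s := statOf (T.filter fun d => 35 ∣ d) with hsdef
  simp only [statOf, Stat.add, Row.stat, Stat.mk.injEq] at hstat
  obtain ⟨Sq, S11, S23, SB, Sc⟩ := hstat
  rw [hq] at Sq
  rw [h11] at S11
  rw [h23] at S23
  obtain ⟨d₀, hd₀⟩ := hexc
  have hB2 : T.countP (isExc · = true) = 2 := by rw [Multiset.countP_eq_card_filter, hd₀]; rfl
  rw [hB2] at SB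
  have hc23' : rp.c23 + rq.c23 + rw'.c23 = 0 := by
    have h0 : ∀ M : Multiset ℕ, (statOf (M.filter fun d => 7 ∣ d)).c23 = 0 := fun M =>
      Multiset.count_filter_of_neg (by norm_num)
    have := congrArg Stat.c23 ps
    rw [h0] at this
    have h' := congrArg Stat.c23 qs
    rw [h0] at h'
    have h'' := congrArg Stat.c23 wst
    rw [h0] at h''
    simp only [Row.stat] at this h' h''
    omega
  simp only [finalOk] at hs₄
  have hqle : Nat.ble (ra.q + rb.q + rc.q + rp.q + rw'.q + rq.q) ord24 = true := by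
    rw [Nat.ble_eq]; omega
  rw [hqle, Bool.not_true, Bool.false_or] at hs₄
  have hlook : (s.q, s.n11, s.n23, s.nB) ∈
      restLook (ord24 - (ra.q + rb.q + rc.q + rp.q + rw'.q + rq.q)) := by
    convert hrest using 2
    omega
  have hs₅ := List.all_eq_true.1 hs₄ _ hlook
  simp only [Bool.or_eq_true, Bool.not_eq_true', Bool.and_eq_false_iff, beq_eq_false_iff_ne, beq_iff_eq] at hs₅
  rcases hs₅ with (h | h) | h
  · omega
  · omega
  · exfalso
    rcases h with h | h
    · apply h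
      rw [az₁, bz₁, cz₁, zSum_eq, zSum_eq, zSum_eq, hane, hae, ← hbne₀, ← hbe₀, hbne, hbe, hcne, hce,
        Multiset.coe_singleton, Multiset.singleton_add, Multiset.coe_nil, zero_add, zero_add]
      exact Int.emod_eq_zero_of_dvd hz₁
    · apply h
      rw [az₂, bz₂, cz₂, zSum_eq, zSum_eq, zSum_eq, hane, hae, ← hbne₀, ← hbe₀, hbne, hbe, hcne, hce,
        Multiset.coe_singleton, Multiset.singleton_add, Multiset.coe_nil, zero_add, zero_add]
      exact Int.emod_eq_zero_of_dvd hz₂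

end Cfsg.Lib.MTwentyFour.Search
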