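import Cfsg.Agent.Lib.MTwentyFour.Search.Rows

/-!
Kernel checks for the degree search.
-/

set_option autoImplicit false

namespace Cfsg.Lib.MTwentyFour.Search

def cand (p f : ℕ) : List ℕ :=
  degs.filter fun d => Nat.ble 2 d && (d % p == f % p || d % p == p - f % p)

def excCand (p a : ℕ) : List ℕ :=
  degs.filter fun d => Nat.ble 2 d && !isExc d && (d % p == a || d % p == p - a)

/-- The options list contains all blocks allowed by the three relations. -/
def covers (p f n : ℕ) (pre : List ℕ) (es : List ℕ) (rows : List Row) : Bool :=
  allComb n (cand p f) fun l => es.all fun e =>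
    !blockOk p f (pre ++ l) e || rows.any fun r => r.isOpt (pre ++ l) e

/-- The options list contains the doubled blocks for two conjugate roots. -/
def coversTwice (p f n : ℕ) (rows : List Row) : Bool :=
  allComb n (cand p f) fun l => !blockOk p f l 0 || rows.any fun r => r.isOpt (l ++ l) 0

def goodSeven (f : ℕ) (r : Row) : Bool :=
  let m := r.members
  r.k1 == enc codes1 m && r.k2 == enc codes2 m && r.k3 == enc codes3 m &&
    r.q == (m.map fun d => d * d).sum && r.n11 == m.countP cnt11 && r.n23 == m.countP cnt23 &&
    r.nB == m.countP isExc && r.c23 == m.countP (· == 23) &&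
    r.z1 == zSum f (-3) r.ne r.e && r.z2 == zSum f 4 r.ne r.e

def goodFive (r : Row) : Bool :=
  let m := r.members
  let s := m.filter (fun d => d % 7 == 0)
  r.k1 == enc codes1 m && r.k2 == enc codes2 m && r.k3 == enc codes3 m &&
    r.q == (s.map fun d => d * d).sum && r.n11 == s.countP cnt11 && r.n23 == s.countP cnt23 &&
    r.nB == s.countP isExc && r.c23 == s.countP (· == 23)

def restLook (q : ℕ) : List (ℕ × ℕ × ℕ × ℕ) := look restTable (q / 4 % 256) 16

/-- The test on a complete choice of six blocks. -/
def finalOk (a b c p w v : Row) : Bool :=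
  let q := a.q + b.q + c.q + p.q + w.q + v.q
  !Nat.ble q ord24 ||
    (let n11 := a.n11 + b.n11 + c.n11 + p.n11 + w.n11 + v.n11
     let n23 := a.n23 + b.n23 + c.n23 + p.n23 + w.n23 + v.n23
     let nB := a.nB + b.nB + c.nB + p.nB + w.nB + v.nB
     (restLook (ord24 - q)).all fun r =>
      !(r.1 + q == ord24 && r.2.1 + n11 == 11 && r.2.2.1 + n23 == 11 && r.2.2.2 + nB == 2) ||
        a.c23 + b.c23 + c.c23 == 1 ||
        !((a.z1 + b.z1 + c.z1) % 1764 == 0 && (a.z2 + b.z2 + c.z2) % 1764 == 0))

/-- The glued search over the blocks at 7 and at 5. -/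
def searchAt (ws : List Row) (a : Row) : Bool :=
  optsP.all fun p => ws.all fun w =>
    let v1 := p.k1 * w.k1
    !(v1 % a.k1 == 0) ||
      (let r0 := v1 / a.k1
       let u2 := p.k2 * w.k2
       let u3 := p.k3 * w.k3
       optsC.all fun c =>
        !(c.k3 % u3 == 0 && r0 % c.k1 == 0) ||
          (let t1 := r0 / c.k1
           (look optsBTable (t1 % 64) 8).all fun b =>
            !(b.k1 == t1) ||
              (let k := a.k2 * b.k2 * c.k2
               !(k % u2 == 0) ||
                (let t2 := k / u2
                 (look optsQTable (t2 % 256) 16).all fun v =>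
                  !(v.k2 == t2) || finalOk a b c p w v))))

theorem searchAtW0 : searchAt optsW (optsA.getD 0 optsB_0) = true := by decide +kernel

theorem searchAtW1 : searchAt optsW (optsA.getD 1 optsB_0) = true := by decide +kernel

theorem searchAtW2 : searchAt optsW (optsA.getD 2 optsB_0) = true := by decide +kernel

theorem searchAtW3 : searchAt optsW (optsA.getD 3 optsB_0) = true := by decide +kernel

theorem searchAtW4 : searchAt optsW (optsA.getD 4 optsB_0) = true := by decide +kernel

theorem searchAtW5 : searchAt optsW (optsA.getD 5 optsB_0) = true := by decide +kernel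

theorem searchAtW6 : searchAt optsW (optsA.getD 6 optsB_0) = true := by decide +kernel

theorem searchAtW7 : searchAt optsW (optsA.getD 7 optsB_0) = true := by decide +kernel

theorem searchAtV0 : searchAt optsV (optsA.getD 0 optsB_0) = true := by decide +kernel

theorem searchAtV1 : searchAt optsV (optsA.getD 1 optsB_0) = true := by decide +kernel

theorem searchAtV2 : searchAt optsV (optsA.getD 2 optsB_0) = true := by decide +kernel

theorem searchAtV3 : searchAt optsV (optsA.getD 3 optsB_0) = true := by decide +kernel

theorem searchAtV4 : searchAt optsV (optsA.getD 4 optsB_0) = true := by decide +kernel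

theorem searchAtV5 : searchAt optsV (optsA.getD 5 optsB_0) = true := by decide +kernel

theorem searchAtV6 : searchAt optsV (optsA.getD 6 optsB_0) = true := by decide +kernel

theorem searchAtV7 : searchAt optsV (optsA.getD 7 optsB_0) = true := by decide +kernel

end Cfsg.Lib.MTwentyFour.Search
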