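import Cfsg.Agent.Lib.MTwentyFour.Search.Check

/-!
Kernel checks: the option lists and lookup tables of the degree search are complete.
-/

set_option autoImplicit false

namespace Cfsg.Lib.MTwentyFour.Search

theorem degs_complete : (dvdList.all fun d => !degOk d || degs.contains d) = true := by decide +kernel

theorem covers_A : covers 7 1 2 [1] (excCand 7 3) optsA = true := by decide +kernel

theorem covers_B : covers 7 1 3 [] (excCand 7 3) optsB = true := by decide +kernel

theorem covers_C : covers 7 2 3 [] (excCand 7 1) optsC = true := by decide +kernel

theorem covers_P : covers 5 1 4 [1] [0] optsP = true := by decide +kernel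

theorem covers_Q : covers 5 3 5 [] [0] optsQ = true := by decide +kernel

theorem covers_W : covers 5 2 2 [] (excCand 5 1) optsW = true := by decide +kernel

theorem covers_V : coversTwice 5 1 5 optsV = true := by decide +kernel

theorem good_A : optsA.all (goodSeven 1) = true := by decide +kernel

theorem good_B : optsB.all (goodSeven 1) = true := by decide +kernel

theorem good_C : optsC.all (goodSeven 2) = true := by decide +kernel

theorem good_P : optsP.all goodFive = true := by decide +kernel

theorem good_Q : optsQ.all goodFive = true := by decide +kernel

theorem good_W : optsW.all goodFive = true := by decide +kernel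

theorem good_V : optsV.all goodFive = true := by decide +kernel

def Row.same (r s : Row) : Bool := r.ne == s.ne && r.e == s.e

theorem table_B : (optsB.all fun r => (look optsBTable (r.k1 % 64) 8).any fun s => Row.same r s && goodSeven 1 s) = true := by decide +kernel

theorem table_Q : (optsQ.all fun r => (look optsQTable (r.k2 % 256) 16).any fun s => Row.same r s && goodFive s) = true := by decide +kernel

def restCheck (a b c d e f : ℕ) : Bool :=
  let q := a * 592900 + b * 2371600 + c * 23328900 + d * 78411025 + e * 108056025 + f * 165894400
  let l := [(770, a), (1540, b), (4830, c), (8855, d), (10395, e), (12880, f)]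
  let n11 := ((l.filter fun x => cnt11 x.1).map Prod.snd).sum
  let n23 := ((l.filter fun x => cnt23 x.1).map Prod.snd).sum
  let nB := ((l.filter fun x => isExc x.1).map Prod.snd).sum
  !(Nat.ble q ord24 && Nat.ble n11 11 && Nat.ble n23 11 && Nat.ble nB 2 && !(a == 1)) ||
    (restLook q).contains (q, n11, n23, nB)

theorem rest_complete : (List.range 3).all (fun a => (List.range 12).all fun b => (List.range 11).all fun c =>
    (List.range 4).all fun d => (List.range 3).all fun e => (List.range 2).all fun f => restCheck a b c d e f) = true := by
  decide +kernel

end Cfsg.Lib.MTwentyFour.Search
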