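import Mathlib.Data.Multiset.AddSub
import Mathlib.Data.List.Sort
import Mathlib.Algebra.BigOperators.Group.List.Basic
import Mathlib.Tactic.Tauto

/-!
The finite search for the character degrees of a group with the local data of M24 at 23, 11, 7 and 5.
-/

set_option autoImplicit false

namespace Cfsg.Lib.MTwentyFour.Search

/-- The order of M24. -/
abbrev ord24 : ℕ := 244823040

def dvdList : List ℕ :=
  (List.range 11).flatMap fun a => (List.range 4).flatMap fun b => (List.range 2).flatMap fun c =>
    (List.range 2).flatMap fun d => (List.range 2).flatMap fun e => (List.range 2).map fun g =>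
      2 ^ a * 3 ^ b * 5 ^ c * 7 ^ d * 11 ^ e * 23 ^ g

/-- The conditions on a character degree from the principal blocks at 23 and 11. -/
def degOk (d : ℕ) : Bool :=
  Nat.ble (d * d + 1) ord24 &&
    (d % 11 == 0 || d % 11 == 1 || d % 11 == 10) &&
    (d % 23 == 0 || d % 23 == 1 || d % 23 == 22 || d % 23 == 11 || d % 23 == 12)

/-- The degrees of the two exceptional characters at 23. -/
def isExc (d : ℕ) : Bool := d % 23 == 11 || d % 23 == 12

/-- Twice the mean value at an element of order 23. -/
def w23 (d : ℕ) : ℤ :=
  if d % 23 == 11 then -1 else if d % 23 == 12 then 1 else if d % 23 == 1 then 2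
  else if d % 23 == 22 then -2 else 0

/-- The value at an element of order 11. -/
def v11 (d : ℕ) : ℤ := if d % 11 == 1 then 1 else if d % 11 == 10 then -1 else 0

/-- The value at a section of a root of degree `f`, of a nonexceptional character. -/
def sgnAt (p f d : ℕ) : ℤ := if d % p == f % p then (f : ℤ) else -(f : ℤ)

/-- The sum of the values at a section of the two exceptional characters, from their degree. -/
def excAt (p e : ℕ) : ℤ :=
  if Nat.ble ((2 * e % p) * 2) p then ((2 * e % p : ℕ) : ℤ) else ((2 * e % p : ℕ) : ℤ) - (p : ℤ)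

def relSum (p f : ℕ) (g : ℕ → ℤ) : List ℕ → ℤ
  | [] => 0
  | d :: l => sgnAt p f d * g d + relSum p f g l

def excPair : List ℕ → Bool
  | [] => true
  | [d, d'] => d == d'
  | _ => false

/-- The three relations of a block with nonexceptional degrees `l` and exceptional degree `e` (0: none). -/
def blockOk (p f : ℕ) (l : List ℕ) (e : ℕ) : Bool :=
  relSum p f (fun d => (d : ℤ)) l + excAt p e * (e : ℤ) == 0 &&
    relSum p f v11 l + excAt p e * v11 e == 0 &&
    relSum p f w23 l + excAt p e * w23 e == 0 &&
    excPair (l.filter isExc)

def tailsL : List ℕ → List (List ℕ)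
  | [] => []
  | x :: xs => (x :: xs) :: tailsL xs

/-- Check all nondecreasing choices of `n` members. -/
def allComb : ℕ → List ℕ → (List ℕ → Bool) → Bool
  | 0, _, P => P []
  | n + 1, cand, P => (tailsL cand).all fun t =>
      match t with
      | [] => true
      | x :: _ => allComb n t fun l => P (x :: l)

theorem allComb_sound : ∀ (n : ℕ) (cand : List ℕ) (P : List ℕ → Bool), allComb n cand P = true →
    ∀ M : Multiset ℕ, Multiset.card M = n → (∀ d ∈ M, d ∈ cand) → ∃ l : List ℕ, (l : Multiset ℕ) = M ∧ P l = true := by
  intro n
  induction n with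
  | zero =>
    intro cand P h M hM _
    exact ⟨[], (Multiset.card_eq_zero.1 hM).symm, h⟩
  | succ n ih =>
    intro cand P h M hM hmem
    induction cand with
    | nil =>
      obtain ⟨d, hd⟩ := Multiset.card_pos_iff_exists_mem.1 (by omega : 0 < Multiset.card M)
      exact absurd (hmem d hd) List.not_mem_nil
    | cons x xs ihc =>
      rw [allComb, tailsL, List.all_cons, Bool.and_eq_true] at h
      obtain ⟨h1, h2⟩ := h
      by_cases hx : x ∈ M
      · obtain ⟨l, hl, hP⟩ := ih (x :: xs) _ h1 (M.erase x)
          (by rw [Multiset.card_erase_of_mem hx, hM]; rfl) fun d hd => hmem d (Multiset.mem_of_mem_erase hd)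
        exact ⟨x :: l, by rw [← Multiset.cons_coe, hl, Multiset.cons_erase hx], hP⟩
      · refine ihc (by rw [allComb]; exact h2) fun d hd => ?_
        rcases List.mem_cons.1 (hmem d hd) with e | e
        · exact absurd (e ▸ hd) hx
        · exact e

end Cfsg.Lib.MTwentyFour.Search
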