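import Cfsg.Agent.Lib.MTwentyFour.Search.Cover
import Mathlib

/-!
Elementary properties of the codes and statistics of the degree search.
-/

set_option autoImplicit false

namespace Cfsg.Lib.MTwentyFour.Search

theorem k1_Q : (optsQ.all fun r => r.k1 == 1) = true := by decide +kernel

theorem k3_A : (optsA.all fun r => r.k3 == 1) = true := by decide +kernel

theorem k3_B : (optsB.all fun r => r.k3 == 1) = true := by decide +kernel

theorem rest_degs : (degs.all fun d => !(d % 35 == 0) || restDegs.contains d) = true := by decide +kernel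

theorem optsA_length : optsA.length = 8 := by decide +kernel

theorem searchAt_W {a : Row} (h : a ∈ optsA) : searchAt optsW a = true := by
  obtain ⟨k, hk, rfl⟩ := List.mem_iff_getElem.1 h
  rw [← List.getD_eq_getElem (hn := hk) (d := optsB_0)]
  rw [optsA_length] at hk
  interval_cases k
  exacts [searchAtW0, searchAtW1, searchAtW2, searchAtW3, searchAtW4, searchAtW5, searchAtW6, searchAtW7]

theorem searchAt_V {a : Row} (h : a ∈ optsA) : searchAt optsV a = true := by
  obtain ⟨k, hk, rfl⟩ := List.mem_iff_getElem.1 h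
  rw [← List.getD_eq_getElem (hn := hk) (d := optsB_0)]
  rw [optsA_length] at hk
  interval_cases k
  exacts [searchAtV0, searchAtV1, searchAtV2, searchAtV3, searchAtV4, searchAtV5, searchAtV6, searchAtV7]

/-- The product code of a multiset of degrees. -/
def mEnc (cs : List (ℕ × ℕ)) (M : Multiset ℕ) : ℕ := (M.map (codeOf cs)).prod

theorem mEnc_coe (cs : List (ℕ × ℕ)) (l : List ℕ) : mEnc cs (l : Multiset ℕ) = enc cs l := rfl

theorem mEnc_add (cs : List (ℕ × ℕ)) (M N : Multiset ℕ) : mEnc cs (M + N) = mEnc cs M * mEnc cs N := by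
  rw [mEnc, Multiset.map_add, Multiset.prod_add]
  rfl

theorem codeOf_cases : ∀ (cs : List (ℕ × ℕ)) (d : ℕ), codeOf cs d = 1 ∨ (d, codeOf cs d) ∈ cs
  | [], _ => Or.inl rfl
  | (k, c) :: t, d => by
    rw [codeOf]
    by_cases h : k = d
    · subst h; simp
    · rcases codeOf_cases t d with e | e <;> simp [h, e]

def codesOk (cs : List (ℕ × ℕ)) : Bool :=
  cs.all fun x => !(x.2 == 0) && !(x.1 % 5 == 0) && !(x.1 % 7 == 0)

theorem codesOk_one : codesOk codes1 = true ∧ codesOk codes2 = true ∧ codesOk codes3 = true := by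
  decide +kernel

theorem codeOf_spec {cs : List (ℕ × ℕ)} (h : codesOk cs = true) (d : ℕ) :
    0 < codeOf cs d ∧ (5 ∣ d ∨ 7 ∣ d → codeOf cs d = 1) := by
  rcases codeOf_cases cs d with e | e
  · exact ⟨by omega, fun _ => e⟩
  · have := List.all_eq_true.1 h _ e
    simp only [Bool.and_eq_true, Bool.not_eq_true', beq_eq_false_iff_ne] at this
    refine ⟨by omega, fun h' => ?_⟩
    exfalso
    omega

theorem mEnc_pos {cs : List (ℕ × ℕ)} (h : codesOk cs = true) (M : Multiset ℕ) : 0 < mEnc cs M := by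
  induction M using Multiset.induction with
  | empty => simp [mEnc]
  | cons a M ih =>
    rw [mEnc, Multiset.map_cons, Multiset.prod_cons]
    exact Nat.mul_pos (codeOf_spec h a).1 ih

theorem mEnc_filter {cs : List (ℕ × ℕ)} (h : codesOk cs = true) (p : ℕ) (hp : p = 5 ∨ p = 7) (T : Multiset ℕ) :
    mEnc cs (T.filter fun d => ¬ p ∣ d) = mEnc cs T := by
  induction T using Multiset.induction with
  | empty => rfl
  | cons a T ih =>
    by_cases ha : p ∣ a
    · rw [Multiset.filter_cons_of_neg (p := fun d => ¬ p ∣ d) T (not_not_intro ha), ih, mEnc, mEnc, Multiset.map_cons,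
        Multiset.prod_cons, (codeOf_spec h a).2 (by rcases hp with rfl | rfl <;> tauto), one_mul]
    · rw [Multiset.filter_cons_of_pos (p := fun d => ¬ p ∣ d) T ha, mEnc, Multiset.map_cons, Multiset.prod_cons, ← mEnc, ih,
        mEnc, mEnc, Multiset.map_cons, Multiset.prod_cons]

/-- The statistics used by the search. -/
structure Stat where
  q : ℕ
  n11 : ℕ
  n23 : ℕ
  nB : ℕ
  c23 : ℕ

def statOf (M : Multiset ℕ) : Stat :=
  ⟨(M.map fun d => d * d).sum, M.countP (cnt11 · = true), M.countP (cnt23 · = true), M.countP (isExc · = true),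
    M.count 23⟩

def Stat.add (s t : Stat) : Stat :=
  ⟨s.q + t.q, s.n11 + t.n11, s.n23 + t.n23, s.nB + t.nB, s.c23 + t.c23⟩

theorem statOf_add (M N : Multiset ℕ) : statOf (M + N) = (statOf M).add (statOf N) := by
  simp only [statOf, Stat.add, Multiset.map_add, Multiset.sum_add, Multiset.countP_add, Multiset.count_add]

def Row.stat (r : Row) : Stat := ⟨r.q, r.n11, r.n23, r.nB, r.c23⟩

theorem list_countP_eq (p : ℕ → Bool) (l : List ℕ) :
    Multiset.countP (p · = true) (l : Multiset ℕ) = l.countP p := by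
  rw [Multiset.coe_countP]
  simp

theorem goodSeven_spec {f : ℕ} {r : Row} (h : goodSeven f r = true) :
    r.k1 = mEnc codes1 r.members ∧ r.k2 = mEnc codes2 r.members ∧ r.k3 = mEnc codes3 r.members ∧
      r.stat = statOf r.members ∧ r.z1 = zSum f (-3) r.ne r.e ∧ r.z2 = zSum f 4 r.ne r.e := by
  simp only [goodSeven, Bool.and_eq_true, beq_iff_eq] at h
  obtain ⟨⟨⟨⟨⟨⟨⟨⟨⟨h1, h2⟩, h3⟩, h4⟩, h5⟩, h6⟩, h7⟩, h8⟩, h9⟩, h10⟩ := h
  refine ⟨h1, h2, h3, ?_, h9, h10⟩
  simp only [Row.stat, statOf, list_countP_eq, Multiset.map_coe, Multiset.sum_coe, Multiset.coe_count]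
  rw [h4, h5, h6, h7, h8]
  rfl

theorem goodFive_spec {r : Row} (h : goodFive r = true) :
    r.k1 = mEnc codes1 r.members ∧ r.k2 = mEnc codes2 r.members ∧ r.k3 = mEnc codes3 r.members ∧
      r.stat = statOf ((r.members : Multiset ℕ).filter fun d => 7 ∣ d) := by
  simp only [goodFive, Bool.and_eq_true, beq_iff_eq] at h
  obtain ⟨⟨⟨⟨⟨⟨⟨h1, h2⟩, h3⟩, h4⟩, h5⟩, h6⟩, h7⟩, h8⟩ := h
  refine ⟨h1, h2, h3, ?_⟩
  have he : r.members.filter (fun d => decide (7 ∣ d)) = r.members.filter fun d => d % 7 == 0 :=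
    List.filter_congr fun d _ => by
      rcases Nat.decEq (d % 7) 0 with e | e <;> simp [Nat.dvd_iff_mod_eq_zero, e]
  simp only [Row.stat, statOf, Multiset.filter_coe, he, list_countP_eq, Multiset.map_coe, Multiset.sum_coe,
    Multiset.coe_count]
  rw [h4, h5, h6, h7, h8]
  rfl

theorem members_eq_of_same {r s : Row} (h : Row.same r s = true) :
    r.members = s.members ∧ r.ne = s.ne ∧ r.e = s.e := by
  simp only [Row.same, Bool.and_eq_true, beq_iff_eq] at h
  exact ⟨by rw [Row.members, Row.members, h.1, h.2], h.1, h.2⟩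

end Cfsg.Lib.MTwentyFour.Search
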