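import Cfsg.Agent.Lib.MTwentyFour.Search.Defs

/-!
The summary of a block option in the degree search.
-/

set_option autoImplicit false

namespace Cfsg.Lib.MTwentyFour.Search

/-- A block option: degrees, three codes for the matching, and statistics. -/
structure Row where
  ne : List ℕ
  e : ℕ
  k1 : ℕ
  k2 : ℕ
  k3 : ℕ
  q : ℕ
  n11 : ℕ
  n23 : ℕ
  nB : ℕ
  c23 : ℕ
  z1 : ℤ
  z2 : ℤ

def Row.members (r : Row) : List ℕ := if r.e == 0 then r.ne else r.e :: r.e :: r.ne

def Row.isOpt (r : Row) (l : List ℕ) (e : ℕ) : Bool := r.ne == l && r.e == e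

def codeOf : List (ℕ × ℕ) → ℕ → ℕ
  | [], _ => 1
  | (k, c) :: t, d => if k == d then c else codeOf t d

def enc (cs : List (ℕ × ℕ)) (l : List ℕ) : ℕ := (l.map (codeOf cs)).prod

def cnt11 (d : ℕ) : Bool := !(d % 11 == 0)

def cnt23 (d : ℕ) : Bool := !(d % 23 == 0) && !isExc d

/-- The weighted value sums at a root of degree `f` over 7, times the order. -/
def zSum (f : ℕ) (c : ℤ) (l : List ℕ) (e : ℕ) : ℤ :=
  (f : ℤ) * f * ((l.map fun d => v11 d * ((ord24 / d : ℕ) : ℤ)).sum + c * (v11 e * ((ord24 / e : ℕ) : ℤ)))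

def look {α : Type} (t : List (List (List α))) (h n : ℕ) : List α := (t.getD (h / n) []).getD (h % n) []

end Cfsg.Lib.MTwentyFour.Search
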