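import Cfsg.Agent.Lib.MTwentyFour.Search.Row

/-!
The block options and lookup tables of the degree search.
-/

set_option autoImplicit false

namespace Cfsg.Lib.MTwentyFour.Search

def degs : List ℕ := [1, 11, 12, 22, 23, 45, 230, 231, 252, 253, 264, 276, 483, 495, 506, 528, 540, 736, 759, 770, 990, 1012, 1024, 1035, 1242, 1265, 1288, 1518, 1540, 1760, 1771, 2024, 2277, 2530, 2760, 2772, 3024, 3036, 3312, 3520, 3542, 3795, 3840, 4048, 4554, 4830, 5060, 5313, 5544, 5796, 6072, 6336, 6831, 7084, 7360, 7590, 8096, 8832, 8855, 9108, 9856, 10120, 10395, 10626, 11385, 11880, 12144, 12420, 12672, 12880, 13662, 14168, 15180, 15456]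

def codes1 : List (ℕ × ℕ) := [(1, 2), (11, 3), (264, 5), (276, 7), (506, 11), (736, 13), (759, 17), (1024, 19), (2024, 23), (3036, 29), (4554, 31), (6336, 37), (6831, 41), (8096, 43), (12144, 47)]

def codes2 : List (ℕ × ℕ) := [(12, 2), (22, 3), (23, 5), (253, 7), (528, 11), (1012, 13), (1242, 17), (1518, 19), (2277, 23), (3312, 29), (4048, 31), (6072, 37), (8832, 41), (9108, 43), (12672, 47), (13662, 53)]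

def codes3 : List (ℕ × ℕ) := [(12, 2), (23, 3), (264, 5), (506, 7), (1024, 11), (2277, 13), (3036, 17), (4048, 19), (8832, 23), (12672, 29), (13662, 31)]

def optsA : List Row :=
 [⟨[1, 22, 22], 45, 2, 9, 1, 5019, 3, 5, 0, 0, 228501504, 266585088⟩,
  ⟨[1, 22, 253], 276, 98, 21, 1, 216846, 3, 2, 0, 0, 242161920, 248371200⟩,
  ⟨[1, 22, 736], 759, 7514, 3, 1, 1694343, 2, 2, 0, 0, 244490400, 244490400⟩,
  ⟨[1, 22, 1035], 1012, 2, 507, 1, 3119998, 2, 2, 0, 0, 245059584, 245059584⟩,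
  ⟨[1, 253, 736], 990, 26, 7, 1, 2565906, 2, 3, 0, 0, 244490400, 244490400⟩,
  ⟨[1, 1035, 2024], 990, 46, 1, 1, 7128002, 2, 3, 0, 0, 245059584, 245059584⟩,
  ⟨[1, 1035, 3520], 4554, 1922, 1, 1, 54939458, 2, 2, 0, 0, 245059584, 245059584⟩,
  ⟨[1, 3520, 3795], 276, 98, 1, 1, 26944778, 3, 2, 0, 0, 242161920, 248371200⟩]

def optsB_0 : Row := ⟨[22, 230, 253], 45, 1, 21, 1, 121443, 3, 3, 0, 0, -17385984, 20697600⟩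
def optsB_1 : Row := ⟨[22, 230, 736], 528, 13, 363, 1, 1152648, 2, 3, 0, 0, -1397088, -1397088⟩
def optsB_2 : Row := ⟨[22, 253, 253], 528, 1, 17787, 1, 686070, 0, 3, 0, 0, 0, 0⟩
def optsB_3 : Row := ⟨[22, 1518, 2024], 528, 23, 6897, 1, 6958952, 0, 3, 0, 0, 0, 0⟩
def optsB_4 : Row := ⟨[230, 230, 736], 276, 637, 1, 1, 799848, 5, 0, 0, 0, -5122656, 1086624⟩
def optsB_5 : Row := ⟨[230, 253, 253], 276, 49, 49, 1, 333270, 3, 0, 0, 0, -3725568, 2483712⟩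
def optsB_6 : Row := ⟨[230, 253, 736], 759, 3757, 7, 1, 1810767, 2, 0, 0, 0, -1397088, -1397088⟩
def optsB_7 : Row := ⟨[230, 253, 1035], 1012, 1, 1183, 1, 3236422, 2, 0, 0, 0, -827904, -827904⟩
def optsB_8 : Row := ⟨[230, 736, 736], 1242, 169, 289, 1, 4221420, 5, 0, 0, 0, -1138368, -2518208⟩
def optsB_9 : Row := ⟨[230, 736, 1518], 1012, 13, 3211, 1, 4947208, 2, 0, 0, 0, -1397088, -1397088⟩
def optsB_10 : Row := ⟨[230, 736, 2024], 2530, 299, 1, 1, 17492972, 2, 0, 0, 0, -1397088, -1397088⟩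
def optsB_11 : Row := ⟨[230, 736, 5060], 4554, 12493, 1, 1, 67676028, 2, 0, 0, 0, -1397088, -1397088⟩
def optsB_12 : Row := ⟨[230, 1035, 2024], 759, 6647, 1, 1, 6372863, 2, 0, 0, 0, -827904, -827904⟩
def optsB_13 : Row := ⟨[230, 1035, 3795], 2530, 1, 1, 1, 28327950, 2, 0, 0, 0, -827904, -827904⟩
def optsB_14 : Row := ⟨[230, 1035, 6831], 8096, 75809, 1, 1, 178877118, 2, 0, 0, 0, -827904, -827904⟩
def optsB_15 : Row := ⟨[230, 1518, 2024], 276, 1127, 19, 1, 6606152, 3, 0, 0, 0, -3725568, 2483712⟩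
def optsB_16 : Row := ⟨[230, 1518, 9108], 7360, 1, 817, 1, 193652088, 3, 0, 0, 0, -1164240, -931392⟩
def optsB_17 : Row := ⟨[230, 3520, 3795], 45, 1, 1, 1, 26849375, 3, 3, 0, 0, -17385984, 20697600⟩
def optsB_18 : Row := ⟨[230, 3795, 3795], 7360, 1, 1, 1, 137196150, 3, 0, 0, 0, -1164240, -931392⟩
def optsB_19 : Row := ⟨[253, 253, 253], 759, 289, 343, 1, 1344189, 0, 0, 0, 0, 0, 0⟩
def optsB_20 : Row := ⟨[253, 253, 736], 1242, 13, 14161, 1, 3754842, 3, 0, 0, 0, 258720, -1121120⟩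
def optsB_21 : Row := ⟨[253, 253, 1518], 1012, 1, 157339, 1, 4480630, 0, 0, 0, 0, 0, 0⟩
def optsB_22 : Row := ⟨[253, 253, 2024], 2530, 23, 49, 1, 17026394, 0, 0, 0, 0, 0, 0⟩
def optsB_23 : Row := ⟨[253, 253, 5060], 4554, 961, 49, 1, 67209450, 0, 0, 0, 0, 0, 0⟩
def optsB_24 : Row := ⟨[253, 1035, 2024], 1242, 23, 2023, 1, 8316938, 3, 0, 0, 0, 827904, -551936⟩
def optsB_25 : Row := ⟨[253, 1035, 3312], 2530, 1, 203, 1, 24906378, 2, 0, 0, 0, 310464, 310464⟩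
def optsB_26 : Row := ⟨[253, 1518, 2024], 759, 6647, 133, 1, 7617071, 0, 0, 0, 0, 0, 0⟩
def optsB_27 : Row := ⟨[253, 1518, 3795], 2530, 1, 133, 1, 29572158, 0, 0, 0, 0, 0, 0⟩
def optsB_28 : Row := ⟨[253, 1518, 6831], 8096, 75809, 133, 1, 180121326, 0, 0, 0, 0, 0, 0⟩
def optsB_29 : Row := ⟨[253, 2024, 3795], 6072, 23, 9583, 1, 92300978, 0, 0, 0, 0, 0, 0⟩
def optsB_30 : Row := ⟨[253, 2024, 6831], 4554, 906223, 7, 1, 92300978, 0, 0, 0, 0, 0, 0⟩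
def optsB_31 : Row := ⟨[253, 2024, 9108], 11385, 23, 301, 1, 346352699, 0, 0, 0, 0, 0, 0⟩
def optsB_32 : Row := ⟨[253, 3312, 3520], 45, 1, 203, 1, 23427803, 3, 3, 0, 0, -16247616, 21835968⟩
def optsB_33 : Row := ⟨[253, 3312, 3795], 7360, 1, 203, 1, 133774578, 3, 0, 0, 0, -25872, 206976⟩
def optsB_34 : Row := ⟨[253, 3520, 3795], 528, 1, 847, 1, 27414002, 0, 3, 0, 0, 0, 0⟩
def optsB_35 : Row := ⟨[253, 3795, 5060], 1012, 1, 1183, 1, 42117922, 0, 0, 0, 0, 0, 0⟩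
def optsB_36 : Row := ⟨[253, 3795, 12144], 8096, 86903, 7, 1, 293033202, 0, 0, 0, 0, 0, 0⟩
def optsB_37 : Row := ⟨[253, 6831, 9108], 2530, 41, 301, 1, 142484034, 0, 0, 0, 0, 0, 0⟩
def optsB_38 : Row := ⟨[540, 540, 1035], 45, 1, 1, 1, 1658475, 5, 2, 2, 0, -15178240, 22905344⟩
def optsB_39 : Row := ⟨[736, 1518, 2024], 1242, 299, 5491, 1, 10027724, 3, 0, 0, 0, 258720, -1121120⟩
def optsB_40 : Row := ⟨[736, 1518, 3312], 2530, 13, 551, 1, 26617164, 2, 0, 0, 0, -258720, -258720⟩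
def optsB_41 : Row := ⟨[736, 2024, 3312], 6072, 299, 39701, 1, 89345984, 2, 0, 0, 0, -258720, -258720⟩
def optsB_42 : Row := ⟨[736, 3312, 3312], 7360, 13, 841, 1, 130819584, 5, 0, 0, 0, -284592, -51744⟩
def optsB_43 : Row := ⟨[736, 3312, 3520], 528, 13, 3509, 1, 24459008, 2, 3, 0, 0, -258720, -258720⟩
def optsB_44 : Row := ⟨[736, 3312, 5060], 1012, 13, 4901, 1, 39162928, 2, 0, 0, 0, -258720, -258720⟩
def optsB_45 : Row := ⟨[736, 3312, 12144], 8096, 1129739, 29, 1, 290078208, 2, 0, 0, 0, -258720, -258720⟩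
def optsB_46 : Row := ⟨[1035, 1035, 3312], 1242, 1, 8381, 1, 16196922, 5, 0, 0, 0, 1138368, -241472⟩
def optsB_47 : Row := ⟨[1035, 1518, 3312], 759, 289, 551, 1, 15497055, 2, 0, 0, 0, 310464, 310464⟩
def optsB_48 : Row := ⟨[1035, 1518, 3795], 1242, 1, 5491, 1, 20862702, 3, 0, 0, 0, 827904, -551936⟩
def optsB_49 : Row := ⟨[1035, 3312, 3795], 6072, 1, 39701, 1, 100180962, 2, 0, 0, 0, 310464, 310464⟩
def optsB_50 : Row := ⟨[1035, 3312, 6831], 4554, 39401, 29, 1, 100180962, 2, 0, 0, 0, 310464, 310464⟩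
def optsB_51 : Row := ⟨[1035, 3312, 9108], 11385, 1, 1247, 1, 354232683, 2, 0, 0, 0, 310464, 310464⟩
def optsB_52 : Row := ⟨[1035, 6831, 9108], 1242, 41, 12427, 1, 133774578, 3, 0, 0, 0, 827904, -551936⟩
def optsB_53 : Row := ⟨[1518, 1518, 1518], 4554, 961, 6859, 1, 48390804, 0, 0, 0, 0, 0, 0⟩
def optsB_54 : Row := ⟨[1518, 1518, 2024], 1012, 23, 61009, 1, 10753512, 0, 0, 0, 0, 0, 0⟩
def optsB_55 : Row := ⟨[1518, 1518, 3312], 276, 49, 10469, 1, 15730344, 3, 0, 0, 0, -2587200, 3622080⟩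
def optsB_56 : Row := ⟨[1518, 1518, 3795], 759, 289, 361, 1, 20162835, 0, 0, 0, 0, 0, 0⟩
def optsB_57 : Row := ⟨[1518, 1518, 5060], 8096, 1849, 361, 1, 161302680, 0, 0, 0, 0, 0, 0⟩
def optsB_58 : Row := ⟨[1518, 1518, 9108], 6072, 1, 21250987, 1, 161302680, 0, 0, 0, 0, 0, 0⟩
def optsB_59 : Row := ⟨[1518, 1518, 12144], 15180, 47, 361, 1, 612950184, 0, 0, 0, 0, 0, 0⟩
def optsB_60 : Row := ⟨[1518, 2024, 2024], 2530, 529, 19, 1, 23299276, 0, 0, 0, 0, 0, 0⟩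
def optsB_61 : Row := ⟨[1518, 2024, 5060], 4554, 22103, 19, 1, 73482332, 0, 0, 0, 0, 0, 0⟩
def optsB_62 : Row := ⟨[1518, 3795, 3795], 6072, 1, 26011, 1, 104846742, 0, 0, 0, 0, 0, 0⟩
def optsB_63 : Row := ⟨[1518, 3795, 6831], 4554, 39401, 19, 1, 104846742, 0, 0, 0, 0, 0, 0⟩
def optsB_64 : Row := ⟨[1518, 3795, 9108], 11385, 1, 817, 1, 358898463, 0, 0, 0, 0, 0, 0⟩
def optsB_65 : Row := ⟨[1518, 5060, 9108], 2530, 1, 817, 1, 123665388, 0, 0, 0, 0, 0, 0⟩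
def optsB_66 : Row := ⟨[1518, 6831, 6831], 15180, 1681, 19, 1, 556494246, 0, 0, 0, 0, 0, 0⟩
def optsB_67 : Row := ⟨[1518, 6831, 9108], 759, 11849, 817, 1, 133074711, 0, 0, 0, 0, 0, 0⟩
def optsB_68 : Row := ⟨[1518, 9108, 12144], 4554, 45167, 817, 1, 274214556, 0, 0, 0, 0, 0, 0⟩
def optsB_69 : Row := ⟨[2024, 2024, 2024], 6072, 12167, 1369, 1, 86028096, 0, 0, 0, 0, 0, 0⟩
def optsB_70 : Row := ⟨[2024, 2024, 3312], 7360, 529, 29, 1, 127501696, 3, 0, 0, 0, -25872, 206976⟩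
def optsB_71 : Row := ⟨[2024, 2024, 3520], 528, 529, 121, 1, 21141120, 0, 3, 0, 0, 0, 0⟩
def optsB_72 : Row := ⟨[2024, 2024, 5060], 1012, 529, 169, 1, 35845040, 0, 0, 0, 0, 0, 0⟩
def optsB_73 : Row := ⟨[2024, 2024, 12144], 8096, 45971687, 1, 1, 286760320, 0, 0, 0, 0, 0, 0⟩
def optsB_74 : Row := ⟨[2024, 3312, 5060], 276, 1127, 29, 1, 40821872, 3, 0, 0, 0, -2587200, 3622080⟩
def optsB_75 : Row := ⟨[2024, 3795, 5060], 759, 6647, 1, 1, 45254363, 0, 0, 0, 0, 0, 0⟩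
def optsB_76 : Row := ⟨[2024, 3795, 6831], 1012, 943, 169, 1, 67209450, 0, 0, 0, 0, 0, 0⟩
def optsB_77 : Row := ⟨[2024, 5060, 5060], 8096, 42527, 1, 1, 186394208, 0, 0, 0, 0, 0, 0⟩
def optsB_78 : Row := ⟨[2024, 5060, 9108], 6072, 23, 58867, 1, 186394208, 0, 0, 0, 0, 0, 0⟩
def optsB_79 : Row := ⟨[2024, 5060, 12144], 15180, 1081, 1, 1, 638041712, 0, 0, 0, 0, 0, 0⟩
def optsB_80 : Row := ⟨[2024, 9108, 12144], 1012, 1081, 7267, 1, 236577264, 0, 0, 0, 0, 0, 0⟩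
def optsB_81 : Row := ⟨[3312, 3795, 6831], 276, 2009, 29, 1, 72186282, 3, 0, 0, 0, -2587200, 3622080⟩
def optsB_82 : Row := ⟨[3312, 5060, 9108], 7360, 1, 1247, 1, 227867808, 3, 0, 0, 0, -25872, 206976⟩
def optsB_83 : Row := ⟨[3312, 9108, 12144], 276, 2303, 1247, 1, 241554096, 3, 0, 0, 0, -2587200, 3622080⟩
def optsB_84 : Row := ⟨[3520, 5060, 9108], 528, 1, 5203, 1, 121507232, 0, 3, 0, 0, 0, 0⟩
def optsB_85 : Row := ⟨[3795, 3795, 3795], 11385, 1, 1, 1, 302442525, 0, 0, 0, 0, 0, 0⟩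
def optsB_86 : Row := ⟨[3795, 3795, 5060], 2530, 1, 1, 1, 67209450, 0, 0, 0, 0, 0, 0⟩
def optsB_87 : Row := ⟨[3795, 3795, 6831], 759, 11849, 1, 1, 76618773, 0, 0, 0, 0, 0, 0⟩
def optsB_88 : Row := ⟨[3795, 3795, 12144], 4554, 45167, 1, 1, 217758618, 0, 0, 0, 0, 0, 0⟩
def optsB_89 : Row := ⟨[3795, 5060, 6831], 8096, 75809, 1, 1, 217758618, 0, 0, 0, 0, 0, 0⟩
def optsB_90 : Row := ⟨[3795, 6831, 9108], 6072, 41, 58867, 1, 217758618, 0, 0, 0, 0, 0, 0⟩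
def optsB_91 : Row := ⟨[3795, 6831, 12144], 15180, 1927, 1, 1, 669406122, 0, 0, 0, 0, 0, 0⟩
def optsB_92 : Row := ⟨[3795, 9108, 12144], 759, 13583, 43, 1, 245986587, 0, 0, 0, 0, 0, 0⟩
def optsB_93 : Row := ⟨[5060, 5060, 5060], 15180, 1, 1, 1, 537675600, 0, 0, 0, 0, 0, 0⟩
def optsB_94 : Row := ⟨[5060, 5060, 9108], 1012, 1, 7267, 1, 136211152, 0, 0, 0, 0, 0, 0⟩
def optsB_95 : Row := ⟨[5060, 9108, 12144], 8096, 86903, 43, 1, 387126432, 0, 0, 0, 0, 0, 0⟩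
def optsB_96 : Row := ⟨[6336, 6336, 12144], 528, 64343, 121, 1, 228324096, 0, 2, 2, 0, 0, 0⟩
def optsB_97 : Row := ⟨[6831, 6831, 9108], 4554, 1615441, 43, 1, 217758618, 0, 0, 0, 0, 0, 0⟩
def optsB_98 : Row := ⟨[6831, 9108, 9108], 11385, 41, 1849, 1, 471810339, 0, 0, 0, 0, 0, 0⟩
def optsB_99 : Row := ⟨[9108, 9108, 12144], 6072, 47, 2531281, 1, 387126432, 0, 0, 0, 0, 0, 0⟩
def optsB_100 : Row := ⟨[9108, 12144, 12144], 15180, 2209, 43, 1, 838773936, 0, 0, 0, 0, 0, 0⟩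

def optsB : List Row := [optsB_0, optsB_1, optsB_2, optsB_3, optsB_4, optsB_5, optsB_6, optsB_7, optsB_8, optsB_9, optsB_10, optsB_11, optsB_12, optsB_13, optsB_14, optsB_15, optsB_16, optsB_17, optsB_18, optsB_19, optsB_20, optsB_21, optsB_22, optsB_23, optsB_24, optsB_25, optsB_26, optsB_27, optsB_28, optsB_29, optsB_30, optsB_31, optsB_32, optsB_33, optsB_34, optsB_35, optsB_36, optsB_37, optsB_38, optsB_39, optsB_40, optsB_41, optsB_42, optsB_43, optsB_44, optsB_45, optsB_46, optsB_47, optsB_48, optsB_49, optsB_50, optsB_51, optsB_52, optsB_53, optsB_54, optsB_55, optsB_56, optsB_57, optsB_58, optsB_59, optsB_60, optsB_61, optsB_62, optsB_63, optsB_64, optsB_65, optsB_66, optsB_67, optsB_68, optsB_69, optsB_70, optsB_71, optsB_72, optsB_73, optsB_74, optsB_75, optsB_76, optsB_77, optsB_78, optsB_79,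 optsB_80, optsB_81, optsB_82, optsB_83, optsB_84, optsB_85, optsB_86, optsB_87, optsB_88, optsB_89, optsB_90, optsB_91, optsB_92, optsB_93, optsB_94, optsB_95, optsB_96, optsB_97, optsB_98, optsB_99, optsB_100]

def optsBTable : List (List (List Row)) :=
 [[[],
  [optsB_0, optsB_2, optsB_7, optsB_13, optsB_16, optsB_17, optsB_18, optsB_21, optsB_23, optsB_25, optsB_27, optsB_32, optsB_33, optsB_34, optsB_35, optsB_38, optsB_46, optsB_48, optsB_49, optsB_51, optsB_53, optsB_58, optsB_62, optsB_64, optsB_65, optsB_82, optsB_84, optsB_85, optsB_86, optsB_93, optsB_94],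
  [],
  [],
  [],
  [],
  [],
  [optsB_69, optsB_91]],
 [[],
  [optsB_67, optsB_87],
  [],
  [optsB_45],
  [],
  [optsB_1, optsB_9, optsB_11, optsB_20, optsB_40, optsB_42, optsB_43, optsB_44],
  [],
  [optsB_92]],
 [[],
  [optsB_60, optsB_66, optsB_70, optsB_71, optsB_72, optsB_97],
  [],
  [],
  [],
  [],
  [],
  [optsB_3, optsB_22, optsB_24, optsB_29, optsB_31, optsB_54, optsB_61, optsB_78, optsB_96]],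
 [[],
  [optsB_81],
  [],
  [],
  [],
  [],
  [],
  [optsB_77]],
 [[],
  [optsB_14, optsB_19, optsB_28, optsB_47, optsB_56, optsB_89, optsB_100],
  [],
  [],
  [],
  [],
  [],
  [optsB_15, optsB_73, optsB_74]],
 [[],
  [optsB_8, optsB_37, optsB_50, optsB_52, optsB_63, optsB_90, optsB_98],
  [],
  [optsB_10, optsB_39, optsB_41],
  [],
  [optsB_6],
  [],
  [optsB_30, optsB_59, optsB_68, optsB_76, optsB_88, optsB_99]],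
 [[],
  [optsB_5, optsB_55],
  [],
  [],
  [],
  [],
  [],
  [optsB_12, optsB_26, optsB_36, optsB_75, optsB_95]],
 [[],
  [optsB_57, optsB_79, optsB_80],
  [],
  [],
  [],
  [optsB_4],
  [],
  [optsB_83]]]

def optsC : List Row :=
 [⟨[23, 506, 506], 1035, 121, 5, 147, 2655051, 3, 0, 0, 1, 39739392, 46362624⟩,
  ⟨[23, 506, 1265], 736, 1859, 5, 21, 2940182, 3, 0, 0, 1, 46569600, 37255680⟩,
  ⟨[23, 1265, 2277], 1035, 1, 115, 39, 8927933, 3, 0, 0, 1, 39739392, 46362624⟩,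
  ⟨[23, 1265, 2760], 1518, 1, 1805, 3, 13827002, 2, 0, 0, 1, 42223104, 42223104⟩,
  ⟨[23, 2277, 2760], 5060, 1, 115, 39, 64010058, 2, 0, 0, 1, 42223104, 42223104⟩,
  ⟨[23, 2277, 3036], 736, 4901, 115, 663, 15485946, 3, 0, 0, 1, 46569600, 37255680⟩,
  ⟨[23, 2760, 3036], 253, 29, 245, 51, 16963443, 2, 0, 0, 1, 42223104, 42223104⟩,
  ⟨[23, 2760, 4048], 6831, 1681, 155, 57, 117329555, 2, 0, 0, 1, 42223104, 42223104⟩,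
  ⟨[23, 3036, 4048], 1035, 29, 155, 969, 27746579, 3, 0, 0, 1, 39739392, 46362624⟩,
  ⟨[264, 264, 506], 22, 275, 9, 175, 396396, 0, 2, 2, 0, 0, 0⟩,
  ⟨[264, 264, 4048], 3520, 25, 31, 475, 41306496, 0, 2, 2, 0, 0, 0⟩,
  ⟨[264, 264, 12672], 12144, 55225, 47, 725, 455672448, 0, 1, 2, 0, 0, 0⟩,
  ⟨[506, 506, 506], 1518, 1331, 361, 343, 5376756, 0, 0, 0, 0, 0, 0⟩,
  ⟨[506, 506, 1265], 253, 121, 49, 49, 2240315, 0, 0, 0, 0, 0, 0⟩,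
  ⟨[506, 506, 3036], 2024, 1856261, 1, 833, 17922520, 0, 0, 0, 0, 0, 0⟩,
  ⟨[506, 506, 4048], 5060, 121, 31, 931, 68105576, 0, 0, 0, 0, 0, 0⟩,
  ⟨[506, 506, 10120], 9108, 121, 1849, 49, 268837800, 0, 0, 0, 0, 0, 0⟩,
  ⟨[506, 1265, 1265], 2024, 5819, 1, 7, 11649638, 0, 0, 0, 0, 0, 0⟩,
  ⟨[506, 1265, 2277], 1518, 11, 8303, 91, 11649638, 0, 0, 0, 0, 0, 0⟩,
  ⟨[506, 1265, 3036], 3795, 319, 1, 119, 39877607, 0, 0, 0, 0, 0, 0⟩,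
  ⟨[506, 1265, 7590], 6831, 18491, 1, 7, 152789483, 0, 0, 0, 0, 0, 0⟩,
  ⟨[506, 2277, 2277], 5060, 11, 529, 1183, 61832694, 0, 0, 0, 0, 0, 0⟩,
  ⟨[506, 2277, 3036], 253, 319, 1127, 1547, 14786079, 0, 0, 0, 0, 0, 0⟩,
  ⟨[506, 2277, 4048], 6831, 18491, 713, 1729, 115152191, 0, 0, 0, 0, 0, 0⟩,
  ⟨[506, 2760, 3036], 230, 319, 1, 119, 17196732, 3, 0, 0, 0, 12418560, -17385984⟩,
  ⟨[506, 3036, 4048], 1518, 319, 11191, 2261, 30468284, 0, 0, 0, 0, 0, 0⟩,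
  ⟨[506, 3036, 7590], 5060, 319, 1, 119, 118288632, 0, 0, 0, 0, 0, 0⟩,
  ⟨[506, 4048, 7590], 12144, 24299, 31, 133, 369203912, 0, 0, 0, 0, 0, 0⟩,
  ⟨[506, 4048, 13662], 9108, 11, 3037907, 4123, 369203912, 0, 0, 0, 0, 0, 0⟩,
  ⟨[506, 7590, 8832], 736, 1859, 41, 161, 136951752, 3, 0, 0, 0, 3880800, -5433120⟩,
  ⟨[506, 7590, 10120], 2024, 5819, 1, 7, 168471688, 0, 0, 0, 0, 0, 0⟩,
  ⟨[506, 12420, 13662], 736, 1859, 53, 217, 342246072, 3, 0, 0, 0, 4070528, -5243392⟩,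
  ⟨[1265, 1265, 1265], 3795, 1, 1, 1, 33604725, 0, 0, 0, 0, 0, 0⟩,
  ⟨[1265, 1265, 2277], 253, 1, 1127, 13, 8513197, 0, 0, 0, 0, 0, 0⟩,
  ⟨[1265, 1265, 2760], 230, 1, 1, 1, 10923850, 3, 0, 0, 0, 12418560, -17385984⟩,
  ⟨[1265, 1265, 4048], 1518, 1, 11191, 19, 24195402, 0, 0, 0, 0, 0, 0⟩,
  ⟨[1265, 1265, 7590], 5060, 1, 1, 1, 112015750, 0, 0, 0, 0, 0, 0⟩,
  ⟨[1265, 2277, 3036], 2024, 15341, 23, 221, 24195402, 0, 0, 0, 0, 0, 0⟩,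
  ⟨[1265, 2277, 4048], 5060, 1, 713, 247, 74378458, 0, 0, 0, 0, 0, 0⟩,
  ⟨[1265, 2277, 10120], 9108, 1, 42527, 13, 275110682, 0, 0, 0, 0, 0, 0⟩,
  ⟨[1265, 3036, 4048], 253, 29, 1519, 323, 27331843, 0, 0, 0, 0, 0, 0⟩,
  ⟨[1265, 4048, 4048], 6831, 1681, 961, 361, 127697955, 0, 0, 0, 0, 0, 0⟩,
  ⟨[1265, 7590, 10120], 3795, 1, 1, 1, 190426775, 0, 0, 0, 0, 0, 0⟩,
  ⟨[1265, 10120, 12420], 1035, 1, 1, 1, 260413475, 3, 0, 0, 0, -2759680, 3863552⟩,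
  ⟨[2277, 2277, 2277], 6831, 1681, 12167, 2197, 108879309, 0, 0, 0, 0, 0, 0⟩,
  ⟨[2277, 2277, 3036], 1518, 29, 190969, 2873, 24195402, 0, 0, 0, 0, 0, 0⟩,
  ⟨[2277, 2277, 7590], 12144, 2209, 529, 169, 362931030, 0, 0, 0, 0, 0, 0⟩,
  ⟨[2277, 2277, 13662], 9108, 1, 51840413, 5239, 362931030, 0, 0, 0, 0, 0, 0⟩,
  ⟨[2277, 2760, 8832], 3795, 1, 943, 299, 119610603, 2, 0, 0, 0, -465696, -465696⟩,
  ⟨[2277, 3036, 3036], 3795, 841, 23, 3757, 52423371, 0, 0, 0, 0, 0, 0⟩,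
  ⟨[2277, 3036, 7590], 6831, 48749, 23, 221, 165335247, 0, 0, 0, 0, 0, 0⟩,
  ⟨[2277, 4048, 10120], 3795, 1, 713, 247, 152789483, 0, 0, 0, 0, 0, 0⟩,
  ⟨[2277, 7590, 8832], 1035, 1, 943, 299, 142939503, 3, 0, 0, 0, -2949408, 3673824⟩,
  ⟨[2277, 7590, 10120], 253, 1, 1127, 13, 165335247, 0, 0, 0, 0, 0, 0⟩,
  ⟨[2277, 7590, 13662], 3795, 1, 1219, 403, 278247123, 0, 0, 0, 0, 0, 0⟩,
  ⟨[2277, 12420, 13662], 1035, 1, 1219, 403, 348233823, 3, 0, 0, 0, -2759680, 3863552⟩,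
  ⟨[2760, 2760, 8832], 3312, 1, 34481, 23, 115178112, 5, 0, 0, 0, -1707552, 362208⟩,
  ⟨[2760, 3036, 3036], 3312, 841, 841, 289, 47990880, 3, 0, 0, 0, -1241856, 827904⟩,
  ⟨[2760, 3036, 8832], 9108, 29, 75809, 391, 260750448, 2, 0, 0, 0, -465696, -465696⟩,
  ⟨[2760, 3036, 12420], 12144, 64061, 1, 17, 466044768, 2, 0, 0, 0, -275968, -275968⟩,
  ⟨[2760, 4048, 8832], 2024, 529, 1271, 437, 110201280, 2, 0, 0, 0, -465696, -465696⟩,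
  ⟨[2760, 4048, 10120], 3312, 1, 26071, 19, 148356992, 3, 0, 0, 0, -1241856, 827904⟩,
  ⟨[2760, 7590, 8832], 1518, 1, 14801, 23, 147838572, 2, 0, 0, 0, -465696, -465696⟩,
  ⟨[2760, 7590, 10120], 230, 1, 1, 1, 167745900, 3, 0, 0, 0, 12418560, -17385984⟩,
  ⟨[2760, 7590, 13662], 3312, 1, 44573, 31, 273814632, 3, 0, 0, 0, -1241856, 827904⟩,
  ⟨[2760, 10120, 12420], 5060, 1, 1, 1, 315495600, 2, 0, 0, 0, -275968, -275968⟩,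
  ⟨[2760, 12420, 13662], 1518, 1, 19133, 31, 353132892, 2, 0, 0, 0, -275968, -275968⟩,
  ⟨[3036, 3036, 3036], 9108, 24389, 1849, 4913, 193563216, 0, 0, 0, 0, 0, 0⟩,
  ⟨[3036, 3036, 4048], 2024, 444889, 31, 5491, 43014048, 0, 0, 0, 0, 0, 0⟩,
  ⟨[3036, 3036, 7590], 1518, 841, 361, 289, 80651340, 0, 0, 0, 0, 0, 0⟩,
  ⟨[3036, 4048, 4048], 5060, 29, 961, 6137, 93197104, 0, 0, 0, 0, 0, 0⟩,
  ⟨[3036, 4048, 10120], 9108, 29, 57319, 323, 293929328, 0, 0, 0, 0, 0, 0⟩,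
  ⟨[3036, 7590, 7590], 12144, 64061, 1, 17, 419386968, 0, 0, 0, 0, 0, 0⟩,
  ⟨[3036, 7590, 13662], 9108, 29, 97997, 527, 419386968, 0, 0, 0, 0, 0, 0⟩,
  ⟨[3036, 10120, 12420], 736, 4901, 1, 17, 266971488, 3, 0, 0, 0, 4070528, -5243392⟩,
  ⟨[4048, 4048, 4048], 12144, 2209, 29791, 6859, 344112384, 0, 0, 0, 0, 0, 0⟩,
  ⟨[4048, 4048, 8832], 736, 169, 39401, 8303, 111860224, 3, 0, 0, 0, 3880800, -5433120⟩,
  ⟨[4048, 4048, 10120], 2024, 529, 961, 361, 143380160, 0, 0, 0, 0, 0, 0⟩,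
  ⟨[4048, 7590, 10120], 1518, 1, 11191, 19, 181017452, 0, 0, 0, 0, 0, 0⟩,
  ⟨[4048, 7590, 13662], 2024, 529, 1643, 589, 268837800, 0, 0, 0, 0, 0, 0⟩,
  ⟨[7590, 7590, 10120], 5060, 1, 1, 1, 268837800, 0, 0, 0, 0, 0, 0⟩,
  ⟨[7590, 7590, 13662], 1518, 1, 19133, 31, 306475092, 0, 0, 0, 0, 0, 0⟩]

def optsP : List Row :=
 [⟨[1, 11, 11, 736, 759], 0, 3978, 1, 1, 0, 0, 0, 0, 0, 0, 0⟩,
  ⟨[1, 276, 1024, 1024, 1771], 0, 5054, 1, 121, 3136441, 0, 0, 0, 0, 0, 0⟩,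
  ⟨[1, 506, 759, 5544, 5796], 0, 374, 1, 7, 64329552, 1, 1, 0, 0, 0, 0⟩,
  ⟨[1, 736, 1771, 3036, 5544], 0, 754, 1, 17, 33872377, 0, 1, 0, 0, 0, 0⟩,
  ⟨[1, 736, 2024, 5544, 6831], 0, 24518, 1, 1, 30735936, 0, 1, 0, 0, 0, 0⟩,
  ⟨[1, 1771, 2024, 5544, 5796], 0, 46, 1, 1, 67465993, 1, 1, 0, 0, 0, 0⟩,
  ⟨[1, 5544, 5796, 6831, 7084], 0, 82, 1, 1, 114512608, 1, 1, 0, 0, 0, 0⟩]

def optsQ_0 : Row := ⟨[12, 12, 22, 23, 23], 0, 1, 300, 36, 0, 0, 0, 0, 0, 0, 0⟩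
def optsQ_1 : Row := ⟨[12, 12, 22, 1242, 1288], 0, 1, 204, 4, 1658944, 1, 0, 0, 0, 0, 0⟩
def optsQ_2 : Row := ⟨[12, 12, 23, 252, 253], 0, 1, 140, 12, 63504, 1, 1, 0, 0, 0, 0⟩
def optsQ_3 : Row := ⟨[12, 12, 252, 252, 528], 0, 1, 44, 4, 127008, 2, 2, 0, 0, 0, 0⟩
def optsQ_4 : Row := ⟨[12, 12, 252, 1012, 1288], 0, 1, 52, 4, 1722448, 2, 1, 0, 0, 0, 0⟩
def optsQ_5 : Row := ⟨[12, 12, 252, 1242, 1518], 0, 1, 1292, 4, 63504, 1, 1, 0, 0, 0, 0⟩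
def optsQ_6 : Row := ⟨[12, 12, 252, 8832, 9108], 0, 1, 7052, 92, 63504, 1, 1, 0, 0, 0, 0⟩
def optsQ_7 : Row := ⟨[22, 22, 528, 528, 1012], 0, 1, 14157, 1, 0, 0, 0, 0, 0, 0, 0⟩
def optsQ_8 : Row := ⟨[22, 23, 483, 528, 1012], 0, 1, 2145, 3, 233289, 1, 0, 0, 0, 0, 0⟩
def optsQ_9 : Row := ⟨[22, 253, 253, 528, 1012], 0, 1, 21021, 1, 0, 0, 0, 0, 0, 0, 0⟩
def optsQ_10 : Row := ⟨[22, 253, 483, 528, 1242], 0, 1, 3927, 1, 233289, 1, 0, 0, 0, 0, 0⟩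
def optsQ_11 : Row := ⟨[22, 253, 528, 1518, 2277], 0, 1, 100947, 13, 0, 0, 0, 0, 0, 0, 0⟩
def optsQ_12 : Row := ⟨[22, 253, 528, 5313, 6072], 0, 1, 8547, 1, 28227969, 0, 0, 0, 0, 0, 0⟩
def optsQ_13 : Row := ⟨[22, 253, 2772, 2772, 5313], 0, 1, 21, 1, 43595937, 0, 0, 2, 0, 0, 0⟩
def optsQ_14 : Row := ⟨[22, 483, 528, 1288, 2277], 0, 1, 759, 13, 1892233, 2, 0, 0, 0, 0, 0⟩
def optsQ_15 : Row := ⟨[22, 528, 1012, 1012, 1518], 0, 1, 105963, 1, 0, 0, 0, 0, 0, 0, 0⟩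
def optsQ_16 : Row := ⟨[22, 528, 1012, 3542, 4048], 0, 1, 13299, 19, 12545764, 0, 0, 0, 0, 0, 0⟩
def optsQ_17 : Row := ⟨[22, 528, 1012, 13662, 14168], 0, 1, 22737, 31, 200732224, 0, 0, 0, 0, 0, 0⟩
def optsQ_18 : Row := ⟨[22, 528, 1242, 3312, 4048], 0, 1, 504339, 19, 0, 0, 0, 0, 0, 0, 0⟩
def optsQ_19 : Row := ⟨[22, 528, 1288, 1518, 3312], 0, 1, 18183, 1, 1658944, 1, 0, 0, 0, 0, 0⟩
def optsQ_20 : Row := ⟨[22, 528, 1518, 1518, 3542], 0, 1, 11913, 1, 12545764, 0, 0, 0, 0, 0, 0⟩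
def optsQ_21 : Row := ⟨[22, 528, 1518, 4048, 6072], 0, 1, 719169, 19, 0, 0, 0, 0, 0, 0, 0⟩
def optsQ_22 : Row := ⟨[22, 528, 2277, 2277, 4048], 0, 1, 541167, 3211, 0, 0, 0, 0, 0, 0, 0⟩
def optsQ_23 : Row := ⟨[22, 528, 2277, 3542, 5313], 0, 1, 759, 13, 40773733, 0, 0, 0, 0, 0, 0⟩
def optsQ_24 : Row := ⟨[22, 528, 3542, 6072, 9108], 0, 1, 52503, 1, 12545764, 0, 0, 0, 0, 0, 0⟩
def optsQ_25 : Row := ⟨[22, 528, 4048, 9108, 13662], 0, 1, 2331417, 589, 0, 0, 0, 0, 0, 0, 0⟩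
def optsQ_26 : Row := ⟨[22, 1518, 2772, 2772, 4048], 0, 1, 1767, 19, 15367968, 0, 0, 2, 0, 0, 0⟩
def optsQ_27 : Row := ⟨[22, 2772, 2772, 3542, 9108], 0, 1, 129, 1, 27913732, 0, 0, 2, 0, 0, 0⟩
def optsQ_28 : Row := ⟨[23, 23, 483, 483, 1012], 0, 1, 325, 9, 466578, 2, 0, 0, 0, 0, 0⟩
def optsQ_29 : Row := ⟨[23, 253, 253, 483, 1012], 0, 1, 3185, 3, 233289, 1, 0, 0, 0, 0, 0⟩
def optsQ_30 : Row := ⟨[23, 253, 483, 483, 1242], 0, 1, 595, 3, 466578, 2, 0, 0, 0, 0, 0⟩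
def optsQ_31 : Row := ⟨[23, 253, 483, 1518, 2277], 0, 1, 15295, 39, 233289, 1, 0, 0, 0, 0, 0⟩
def optsQ_32 : Row := ⟨[23, 253, 483, 5313, 6072], 0, 1, 1295, 3, 28461258, 1, 0, 0, 0, 0, 0⟩
def optsQ_33 : Row := ⟨[23, 253, 1012, 3312, 4048], 0, 1, 409045, 57, 0, 0, 0, 0, 0, 0, 0⟩
def optsQ_34 : Row := ⟨[23, 253, 1518, 1518, 3312], 0, 1, 366415, 3, 0, 0, 0, 0, 0, 0, 0⟩
def optsQ_35 : Row := ⟨[23, 253, 2277, 3312, 5313], 0, 1, 23345, 39, 28227969, 0, 0, 0, 0, 0, 0⟩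
def optsQ_36 : Row := ⟨[23, 253, 3312, 6072, 9108], 0, 1, 1614865, 3, 0, 0, 0, 0, 0, 0, 0⟩
def optsQ_37 : Row := ⟨[23, 483, 483, 1288, 2277], 0, 1, 115, 39, 2125522, 3, 0, 0, 0, 0, 0⟩
def optsQ_38 : Row := ⟨[23, 483, 1012, 1012, 1518], 0, 1, 16055, 3, 233289, 1, 0, 0, 0, 0, 0⟩
def optsQ_39 : Row := ⟨[23, 483, 1012, 3542, 4048], 0, 1, 2015, 57, 12779053, 1, 0, 0, 0, 0, 0⟩
def optsQ_40 : Row := ⟨[23, 483, 1012, 13662, 14168], 0, 1, 3445, 93, 200965513, 1, 0, 0, 0, 0, 0⟩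
def optsQ_41 : Row := ⟨[23, 483, 1242, 3312, 4048], 0, 1, 76415, 57, 233289, 1, 0, 0, 0, 0, 0⟩
def optsQ_42 : Row := ⟨[23, 483, 1288, 1518, 3312], 0, 1, 2755, 3, 1892233, 2, 0, 0, 0, 0, 0⟩
def optsQ_43 : Row := ⟨[23, 483, 1518, 1518, 3542], 0, 1, 1805, 3, 12779053, 1, 0, 0, 0, 0, 0⟩
def optsQ_44 : Row := ⟨[23, 483, 1518, 4048, 6072], 0, 1, 108965, 57, 233289, 1, 0, 0, 0, 0, 0⟩
def optsQ_45 : Row := ⟨[23, 483, 2277, 2277, 4048], 0, 1, 81995, 9633, 233289, 1, 0, 0, 0, 0, 0⟩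
def optsQ_46 : Row := ⟨[23, 483, 2277, 3542, 5313], 0, 1, 115, 39, 41007022, 1, 0, 0, 0, 0, 0⟩
def optsQ_47 : Row := ⟨[23, 483, 3542, 6072, 9108], 0, 1, 7955, 3, 12779053, 1, 0, 0, 0, 0, 0⟩
def optsQ_48 : Row := ⟨[23, 483, 4048, 9108, 13662], 0, 1, 353245, 1767, 233289, 1, 0, 0, 0, 0, 0⟩
def optsQ_49 : Row := ⟨[23, 1012, 1012, 3312, 5313], 0, 1, 24505, 3, 28227969, 0, 0, 0, 0, 0, 0⟩
def optsQ_50 : Row := ⟨[23, 1288, 3312, 3312, 5313], 0, 1, 4205, 3, 29886913, 1, 0, 0, 0, 0, 0⟩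
def optsQ_51 : Row := ⟨[23, 1518, 2277, 3312, 4048], 0, 1, 1964315, 741, 0, 0, 0, 0, 0, 0, 0⟩
def optsQ_52 : Row := ⟨[23, 1518, 3312, 3542, 5313], 0, 1, 2755, 3, 40773733, 0, 0, 0, 0, 0, 0⟩
def optsQ_53 : Row := ⟨[23, 2277, 3312, 3542, 9108], 0, 1, 143405, 39, 12545764, 0, 0, 0, 0, 0, 0⟩
def optsQ_54 : Row := ⟨[23, 3312, 4048, 5313, 6072], 0, 1, 166315, 57, 28227969, 0, 0, 0, 0, 0, 0⟩
def optsQ_55 : Row := ⟨[252, 253, 483, 528, 1012], 0, 1, 1001, 1, 296793, 2, 1, 0, 0, 0, 0⟩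
def optsQ_56 : Row := ⟨[252, 483, 483, 528, 1242], 0, 1, 187, 1, 530082, 3, 1, 0, 0, 0, 0⟩
def optsQ_57 : Row := ⟨[252, 483, 528, 1518, 2277], 0, 1, 4807, 13, 296793, 2, 1, 0, 0, 0, 0⟩
def optsQ_58 : Row := ⟨[252, 483, 528, 5313, 6072], 0, 1, 407, 1, 28524762, 2, 1, 0, 0, 0, 0⟩
def optsQ_59 : Row := ⟨[252, 483, 2772, 2772, 5313], 0, 1, 1, 1, 43892730, 2, 1, 2, 0, 0, 0⟩
def optsQ_60 : Row := ⟨[252, 528, 1012, 3312, 4048], 0, 1, 128557, 19, 63504, 1, 1, 0, 0, 0, 0⟩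
def optsQ_61 : Row := ⟨[252, 528, 1518, 1518, 3312], 0, 1, 115159, 1, 63504, 1, 1, 0, 0, 0, 0⟩
def optsQ_62 : Row := ⟨[252, 528, 2277, 3312, 5313], 0, 1, 7337, 13, 28291473, 1, 1, 0, 0, 0, 0⟩
def optsQ_63 : Row := ⟨[252, 528, 3312, 6072, 9108], 0, 1, 507529, 1, 63504, 1, 1, 0, 0, 0, 0⟩
def optsQ_64 : Row := ⟨[252, 2772, 2772, 3312, 9108], 0, 1, 1247, 1, 15431472, 1, 1, 2, 0, 0, 0⟩
def optsQ_65 : Row := ⟨[253, 253, 253, 253, 1012], 0, 1, 31213, 1, 0, 0, 0, 0, 0, 0, 0⟩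
def optsQ_66 : Row := ⟨[253, 253, 253, 483, 1242], 0, 1, 5831, 1, 233289, 1, 0, 0, 0, 0, 0⟩
def optsQ_67 : Row := ⟨[253, 253, 253, 1518, 2277], 0, 1, 149891, 13, 0, 0, 0, 0, 0, 0, 0⟩
def optsQ_68 : Row := ⟨[253, 253, 253, 5313, 6072], 0, 1, 12691, 1, 28227969, 0, 0, 0, 0, 0, 0⟩
def optsQ_69 : Row := ⟨[253, 253, 483, 1288, 2277], 0, 1, 1127, 13, 1892233, 2, 0, 0, 0, 0, 0⟩
def optsQ_70 : Row := ⟨[253, 253, 1012, 1012, 1518], 0, 1, 157339, 1, 0, 0, 0, 0, 0, 0, 0⟩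
def optsQ_71 : Row := ⟨[253, 253, 1012, 3542, 4048], 0, 1, 19747, 19, 12545764, 0, 0, 0, 0, 0, 0⟩
def optsQ_72 : Row := ⟨[253, 253, 1012, 13662, 14168], 0, 1, 33761, 31, 200732224, 0, 0, 0, 0, 0, 0⟩
def optsQ_73 : Row := ⟨[253, 253, 1242, 3312, 4048], 0, 1, 748867, 19, 0, 0, 0, 0, 0, 0, 0⟩
def optsQ_74 : Row := ⟨[253, 253, 1288, 1518, 3312], 0, 1, 26999, 1, 1658944, 1, 0, 0, 0, 0, 0⟩
def optsQ_75 : Row := ⟨[253, 253, 1518, 1518, 3542], 0, 1, 17689, 1, 12545764, 0, 0, 0, 0, 0, 0⟩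
def optsQ_76 : Row := ⟨[253, 253, 1518, 4048, 6072], 0, 1, 1067857, 19, 0, 0, 0, 0, 0, 0, 0⟩
def optsQ_77 : Row := ⟨[253, 253, 2277, 2277, 4048], 0, 1, 803551, 3211, 0, 0, 0, 0, 0, 0, 0⟩
def optsQ_78 : Row := ⟨[253, 253, 2277, 3542, 5313], 0, 1, 1127, 13, 40773733, 0, 0, 0, 0, 0, 0⟩
def optsQ_79 : Row := ⟨[253, 253, 3542, 6072, 9108], 0, 1, 77959, 1, 12545764, 0, 0, 0, 0, 0, 0⟩
def optsQ_80 : Row := ⟨[253, 253, 4048, 9108, 13662], 0, 1, 3461801, 589, 0, 0, 0, 0, 0, 0, 0⟩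
def optsQ_81 : Row := ⟨[253, 483, 1012, 1012, 1288], 0, 1, 1183, 1, 1892233, 2, 0, 0, 0, 0, 0⟩
def optsQ_82 : Row := ⟨[253, 483, 1012, 1242, 1518], 0, 1, 29393, 1, 233289, 1, 0, 0, 0, 0, 0⟩
def optsQ_83 : Row := ⟨[253, 483, 1012, 8832, 9108], 0, 1, 160433, 23, 233289, 1, 0, 0, 0, 0, 0⟩
def optsQ_84 : Row := ⟨[253, 483, 1242, 3542, 4048], 0, 1, 3689, 19, 12779053, 1, 0, 0, 0, 0, 0⟩
def optsQ_85 : Row := ⟨[253, 483, 1242, 13662, 14168], 0, 1, 6307, 31, 200965513, 1, 0, 0, 0, 0, 0⟩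
def optsQ_86 : Row := ⟨[253, 483, 1288, 1288, 3312], 0, 1, 203, 1, 3551177, 3, 0, 0, 0, 0, 0⟩
def optsQ_87 : Row := ⟨[253, 483, 1288, 1518, 3542], 0, 1, 133, 1, 14437997, 2, 0, 0, 0, 0, 0⟩
def optsQ_88 : Row := ⟨[253, 483, 1288, 4048, 6072], 0, 1, 8029, 19, 1892233, 2, 0, 0, 0, 0, 0⟩
def optsQ_89 : Row := ⟨[253, 483, 4048, 4048, 8832], 0, 1, 275807, 8303, 233289, 1, 0, 0, 0, 0, 0⟩
def optsQ_90 : Row := ⟨[253, 483, 6072, 8832, 14168], 0, 1, 10619, 23, 200965513, 1, 0, 0, 0, 0, 0⟩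
def optsQ_91 : Row := ⟨[253, 528, 2277, 12672, 14168], 0, 1, 83237, 377, 200732224, 0, 0, 0, 0, 0, 0⟩
def optsQ_92 : Row := ⟨[253, 1012, 1012, 2277, 4048], 0, 1, 843479, 247, 0, 0, 0, 0, 0, 0, 0⟩
def optsQ_93 : Row := ⟨[253, 1012, 1012, 3542, 5313], 0, 1, 1183, 1, 40773733, 0, 0, 0, 0, 0, 0⟩
def optsQ_94 : Row := ⟨[253, 1012, 1242, 3312, 5313], 0, 1, 44863, 1, 28227969, 0, 0, 0, 0, 0, 0⟩
def optsQ_95 : Row := ⟨[253, 1012, 1518, 1518, 2277], 0, 1, 755573, 13, 0, 0, 0, 0, 0, 0, 0⟩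
def optsQ_96 : Row := ⟨[253, 1012, 1518, 5313, 6072], 0, 1, 63973, 1, 28227969, 0, 0, 0, 0, 0, 0⟩
def optsQ_97 : Row := ⟨[253, 1012, 2277, 2277, 5313], 0, 1, 48139, 169, 28227969, 0, 0, 0, 0, 0, 0⟩
def optsQ_98 : Row := ⟨[253, 1012, 2277, 6072, 9108], 0, 1, 3329963, 13, 0, 0, 0, 0, 0, 0, 0⟩
def optsQ_99 : Row := ⟨[253, 1012, 5313, 9108, 13662], 0, 1, 207389, 31, 28227969, 0, 0, 0, 0, 0, 0⟩
def optsQ_100 : Row := ⟨[253, 1288, 2277, 3312, 4048], 0, 1, 144739, 247, 1658944, 1, 0, 0, 0, 0, 0⟩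
def optsQ_101 : Row := ⟨[253, 1288, 3312, 3542, 5313], 0, 1, 203, 1, 42432677, 1, 0, 0, 0, 0, 0⟩
def optsQ_102 : Row := ⟨[253, 1518, 2277, 3542, 4048], 0, 1, 94829, 247, 12545764, 0, 0, 0, 0, 0, 0⟩
def optsQ_103 : Row := ⟨[253, 1518, 2277, 13662, 14168], 0, 1, 162127, 403, 200732224, 0, 0, 0, 0, 0, 0⟩
def optsQ_104 : Row := ⟨[253, 1518, 3542, 3542, 5313], 0, 1, 133, 1, 53319497, 0, 0, 0, 0, 0, 0⟩
def optsQ_105 : Row := ⟨[253, 2277, 3312, 8832, 14168], 0, 1, 191429, 299, 200732224, 0, 0, 0, 0, 0, 0⟩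
def optsQ_106 : Row := ⟨[253, 2277, 3542, 3542, 9108], 0, 1, 6923, 13, 25091528, 0, 0, 0, 0, 0, 0⟩
def optsQ_107 : Row := ⟨[253, 2277, 4048, 4048, 6072], 0, 1, 5724677, 4693, 0, 0, 0, 0, 0, 0, 0⟩
def optsQ_108 : Row := ⟨[253, 2277, 6072, 6072, 14168], 0, 1, 220409, 13, 200732224, 0, 0, 0, 0, 0, 0⟩
def optsQ_109 : Row := ⟨[253, 3542, 4048, 5313, 6072], 0, 1, 8029, 19, 40773733, 0, 0, 0, 0, 0, 0⟩
def optsQ_110 : Row := ⟨[253, 4048, 4048, 5313, 13662], 0, 1, 356531, 11191, 28227969, 0, 0, 0, 0, 0, 0⟩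
def optsQ_111 : Row := ⟨[253, 5313, 6072, 13662, 14168], 0, 1, 13727, 31, 228960193, 0, 0, 0, 0, 0, 0⟩
def optsQ_112 : Row := ⟨[483, 483, 1012, 1242, 1288], 0, 1, 221, 1, 2125522, 3, 0, 0, 0, 0, 0⟩
def optsQ_113 : Row := ⟨[483, 483, 1242, 1242, 1518], 0, 1, 5491, 1, 466578, 2, 0, 0, 0, 0, 0⟩
def optsQ_114 : Row := ⟨[483, 483, 1242, 8832, 9108], 0, 1, 29971, 23, 466578, 2, 0, 0, 0, 0, 0⟩
def optsQ_115 : Row := ⟨[483, 483, 1288, 1288, 3542], 0, 1, 1, 1, 16330230, 4, 0, 0, 0, 0, 0⟩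
def optsQ_116 : Row := ⟨[483, 1012, 1242, 2277, 4048], 0, 1, 157573, 247, 233289, 1, 0, 0, 0, 0, 0⟩
def optsQ_117 : Row := ⟨[483, 1012, 1242, 3542, 5313], 0, 1, 221, 1, 41007022, 1, 0, 0, 0, 0, 0⟩
def optsQ_118 : Row := ⟨[483, 1012, 1288, 1518, 2277], 0, 1, 5681, 13, 1892233, 2, 0, 0, 0, 0, 0⟩
def optsQ_119 : Row := ⟨[483, 1012, 1288, 5313, 6072], 0, 1, 481, 1, 30120202, 2, 0, 0, 0, 0, 0⟩
def optsQ_120 : Row := ⟨[483, 1012, 4048, 5313, 8832], 0, 1, 16523, 437, 28461258, 1, 0, 0, 0, 0, 0⟩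
def optsQ_121 : Row := ⟨[483, 1242, 1242, 3312, 5313], 0, 1, 8381, 1, 28461258, 1, 0, 0, 0, 0, 0⟩
def optsQ_122 : Row := ⟨[483, 1242, 1518, 1518, 2277], 0, 1, 141151, 13, 233289, 1, 0, 0, 0, 0, 0⟩
def optsQ_123 : Row := ⟨[483, 1242, 1518, 5313, 6072], 0, 1, 11951, 1, 28461258, 1, 0, 0, 0, 0, 0⟩
def optsQ_124 : Row := ⟨[483, 1242, 2277, 2277, 5313], 0, 1, 8993, 169, 28461258, 1, 0, 0, 0, 0, 0⟩
def optsQ_125 : Row := ⟨[483, 1242, 2277, 6072, 9108], 0, 1, 622081, 13, 233289, 1, 0, 0, 0, 0, 0⟩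
def optsQ_126 : Row := ⟨[483, 1242, 5313, 9108, 13662], 0, 1, 38743, 31, 28461258, 1, 0, 0, 0, 0, 0⟩
def optsQ_127 : Row := ⟨[483, 1288, 2277, 3542, 4048], 0, 1, 713, 247, 14437997, 2, 0, 0, 0, 0, 0⟩
def optsQ_128 : Row := ⟨[483, 1288, 2277, 13662, 14168], 0, 1, 1219, 403, 202624457, 2, 0, 0, 0, 0, 0⟩
def optsQ_129 : Row := ⟨[483, 1288, 3542, 3542, 5313], 0, 1, 1, 1, 55211730, 2, 0, 0, 0, 0, 0⟩
def optsQ_130 : Row := ⟨[483, 1518, 1518, 5313, 8832], 0, 1, 14801, 23, 28461258, 1, 0, 0, 0, 0, 0⟩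
def optsQ_131 : Row := ⟨[483, 1518, 2277, 8832, 9108], 0, 1, 770431, 299, 233289, 1, 0, 0, 0, 0, 0⟩
def optsQ_132 : Row := ⟨[483, 2277, 3542, 8832, 14168], 0, 1, 943, 299, 213511277, 1, 0, 0, 0, 0, 0⟩
def optsQ_133 : Row := ⟨[483, 2277, 5313, 5313, 8832], 0, 1, 943, 299, 56689227, 1, 0, 0, 0, 0, 0⟩
def optsQ_134 : Row := ⟨[483, 5313, 6072, 8832, 9108], 0, 1, 65231, 23, 28461258, 1, 0, 0, 0, 0, 0⟩
def optsQ_135 : Row := ⟨[528, 1012, 1012, 12672, 14168], 0, 1, 87373, 29, 200732224, 0, 0, 0, 0, 0, 0⟩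
def optsQ_136 : Row := ⟨[528, 1012, 4048, 9108, 12672], 0, 1, 8959093, 551, 0, 0, 0, 0, 0, 0, 0⟩
def optsQ_137 : Row := ⟨[528, 1288, 3312, 12672, 14168], 0, 1, 14993, 29, 202391168, 1, 0, 0, 0, 0, 0⟩
def optsQ_138 : Row := ⟨[528, 1518, 1518, 9108, 12672], 0, 1, 8025391, 29, 0, 0, 0, 0, 0, 0, 0⟩
def optsQ_139 : Row := ⟨[528, 1518, 3542, 12672, 14168], 0, 1, 9823, 29, 213277988, 0, 0, 0, 0, 0, 0⟩
def optsQ_140 : Row := ⟨[528, 1518, 5313, 5313, 12672], 0, 1, 9823, 29, 56455938, 0, 0, 0, 0, 0, 0⟩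
def optsQ_141 : Row := ⟨[528, 2277, 5313, 9108, 12672], 0, 1, 511313, 377, 28227969, 0, 0, 0, 0, 0, 0⟩
def optsQ_142 : Row := ⟨[528, 4048, 4048, 4048, 12672], 0, 1, 15401947, 198911, 0, 0, 0, 0, 0, 0, 0⟩
def optsQ_143 : Row := ⟨[528, 4048, 6072, 12672, 14168], 0, 1, 592999, 551, 200732224, 0, 0, 0, 0, 0, 0⟩
def optsQ_144 : Row := ⟨[528, 6072, 9108, 9108, 12672], 0, 1, 35369521, 29, 0, 0, 0, 0, 0, 0, 0⟩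
def optsQ_145 : Row := ⟨[1012, 1012, 1012, 1012, 4048], 0, 1, 885391, 19, 0, 0, 0, 0, 0, 0, 0⟩
def optsQ_146 : Row := ⟨[1012, 1012, 1012, 1518, 1518], 0, 1, 793117, 1, 0, 0, 0, 0, 0, 0, 0⟩
def optsQ_147 : Row := ⟨[1012, 1012, 1012, 2277, 5313], 0, 1, 50531, 13, 28227969, 0, 0, 0, 0, 0, 0⟩
def optsQ_148 : Row := ⟨[1012, 1012, 1012, 6072, 9108], 0, 1, 3495427, 1, 0, 0, 0, 0, 0, 0, 0⟩
def optsQ_149 : Row := ⟨[1012, 1012, 1288, 3312, 4048], 0, 1, 151931, 19, 1658944, 1, 0, 0, 0, 0, 0⟩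
def optsQ_150 : Row := ⟨[1012, 1012, 1518, 3542, 4048], 0, 1, 99541, 19, 12545764, 0, 0, 0, 0, 0, 0⟩
def optsQ_151 : Row := ⟨[1012, 1012, 1518, 13662, 14168], 0, 1, 170183, 31, 200732224, 0, 0, 0, 0, 0, 0⟩
def optsQ_152 : Row := ⟨[1012, 1012, 3312, 8832, 14168], 0, 1, 200941, 23, 200732224, 0, 0, 0, 0, 0, 0⟩
def optsQ_153 : Row := ⟨[1012, 1012, 3542, 3542, 9108], 0, 1, 7267, 1, 25091528, 0, 0, 0, 0, 0, 0⟩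
def optsQ_154 : Row := ⟨[1012, 1012, 4048, 4048, 6072], 0, 1, 6009133, 361, 0, 0, 0, 0, 0, 0, 0⟩
def optsQ_155 : Row := ⟨[1012, 1012, 6072, 6072, 14168], 0, 1, 231361, 1, 200732224, 0, 0, 0, 0, 0, 0⟩
def optsQ_156 : Row := ⟨[1012, 1242, 1518, 3312, 4048], 0, 1, 3774901, 19, 0, 0, 0, 0, 0, 0, 0⟩
def optsQ_157 : Row := ⟨[1012, 1242, 3312, 3542, 9108], 0, 1, 275587, 1, 12545764, 0, 0, 0, 0, 0, 0⟩
def optsQ_158 : Row := ⟨[1012, 1288, 1518, 1518, 3312], 0, 1, 136097, 1, 1658944, 1, 0, 0, 0, 0, 0⟩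
def optsQ_159 : Row := ⟨[1012, 1288, 2277, 3312, 5313], 0, 1, 8671, 13, 29886913, 1, 0, 0, 0, 0, 0⟩
def optsQ_160 : Row := ⟨[1012, 1288, 3312, 6072, 9108], 0, 1, 599807, 1, 1658944, 1, 0, 0, 0, 0, 0⟩
def optsQ_161 : Row := ⟨[1012, 1518, 1518, 1518, 3542], 0, 1, 89167, 1, 12545764, 0, 0, 0, 0, 0, 0⟩
def optsQ_162 : Row := ⟨[1012, 1518, 1518, 4048, 6072], 0, 1, 5382871, 19, 0, 0, 0, 0, 0, 0, 0⟩
def optsQ_163 : Row := ⟨[1012, 1518, 2277, 2277, 4048], 0, 1, 4050553, 3211, 0, 0, 0, 0, 0, 0, 0⟩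
def optsQ_164 : Row := ⟨[1012, 1518, 2277, 3542, 5313], 0, 1, 5681, 13, 40773733, 0, 0, 0, 0, 0, 0⟩
def optsQ_165 : Row := ⟨[1012, 1518, 3542, 6072, 9108], 0, 1, 392977, 1, 12545764, 0, 0, 0, 0, 0, 0⟩
def optsQ_166 : Row := ⟨[1012, 1518, 4048, 9108, 13662], 0, 1, 17450303, 589, 0, 0, 0, 0, 0, 0, 0⟩
def optsQ_167 : Row := ⟨[1012, 2277, 2277, 3542, 9108], 0, 1, 295711, 169, 12545764, 0, 0, 0, 0, 0, 0⟩
def optsQ_168 : Row := ⟨[1012, 2277, 4048, 5313, 6072], 0, 1, 342953, 247, 28227969, 0, 0, 0, 0, 0, 0⟩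
def optsQ_169 : Row := ⟨[1012, 3312, 4048, 8832, 9108], 0, 1, 20604181, 437, 0, 0, 0, 0, 0, 0, 0⟩
def optsQ_170 : Row := ⟨[1012, 3542, 3542, 4048, 4048], 0, 1, 12493, 361, 25091528, 0, 0, 0, 0, 0, 0⟩
def optsQ_171 : Row := ⟨[1012, 3542, 3542, 6072, 14168], 0, 1, 481, 1, 225823752, 0, 0, 0, 0, 0, 0⟩
def optsQ_172 : Row := ⟨[1012, 3542, 4048, 13662, 14168], 0, 1, 21359, 589, 213277988, 0, 0, 0, 0, 0, 0⟩
def optsQ_173 : Row := ⟨[1012, 3542, 5313, 5313, 6072], 0, 1, 481, 1, 69001702, 0, 0, 0, 0, 0, 0⟩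
def optsQ_174 : Row := ⟨[1012, 3542, 9108, 9108, 13662], 0, 1, 1273961, 31, 12545764, 0, 0, 0, 0, 0, 0⟩
def optsQ_175 : Row := ⟨[1012, 4048, 5313, 5313, 13662], 0, 1, 21359, 589, 56455938, 0, 0, 0, 0, 0, 0⟩
def optsQ_176 : Row := ⟨[1012, 4048, 6072, 6072, 9108], 0, 1, 23723401, 19, 0, 0, 0, 0, 0, 0, 0⟩
def optsQ_177 : Row := ⟨[1012, 13662, 13662, 14168, 14168], 0, 1, 36517, 961, 401464448, 0, 0, 0, 0, 0, 0⟩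
def optsQ_178 : Row := ⟨[1242, 1242, 3312, 3312, 9108], 0, 1, 10451107, 1, 0, 0, 0, 0, 0, 0, 0⟩
def optsQ_179 : Row := ⟨[1242, 1518, 1518, 1518, 3312], 0, 1, 3381487, 1, 0, 0, 0, 0, 0, 0, 0⟩
def optsQ_180 : Row := ⟨[1242, 1518, 2277, 3312, 5313], 0, 1, 215441, 13, 28227969, 0, 0, 0, 0, 0, 0⟩
def optsQ_181 : Row := ⟨[1242, 1518, 3312, 6072, 9108], 0, 1, 14902897, 1, 0, 0, 0, 0, 0, 0, 0⟩
def optsQ_182 : Row := ⟨[1242, 2277, 2277, 3312, 9108], 0, 1, 11214271, 169, 0, 0, 0, 0, 0, 0, 0⟩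
def optsQ_183 : Row := ⟨[1242, 3312, 3542, 4048, 4048], 0, 1, 473773, 361, 12545764, 0, 0, 0, 0, 0, 0⟩
def optsQ_184 : Row := ⟨[1242, 3312, 3542, 6072, 14168], 0, 1, 18241, 1, 213277988, 0, 0, 0, 0, 0, 0⟩
def optsQ_185 : Row := ⟨[1242, 3312, 4048, 13662, 14168], 0, 1, 809999, 589, 200732224, 0, 0, 0, 0, 0, 0⟩
def optsQ_186 : Row := ⟨[1242, 3312, 5313, 5313, 6072], 0, 1, 18241, 1, 56455938, 0, 0, 0, 0, 0, 0⟩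
def optsQ_187 : Row := ⟨[1242, 3312, 9108, 9108, 13662], 0, 1, 48312521, 31, 0, 0, 0, 0, 0, 0, 0⟩
def optsQ_188 : Row := ⟨[1288, 1288, 3312, 3312, 4048], 0, 1, 26071, 19, 3317888, 2, 0, 0, 0, 0, 0⟩
def optsQ_189 : Row := ⟨[1288, 1518, 3312, 3542, 4048], 0, 1, 17081, 19, 14204708, 1, 0, 0, 0, 0, 0⟩
def optsQ_190 : Row := ⟨[1288, 1518, 3312, 13662, 14168], 0, 1, 29203, 31, 202391168, 1, 0, 0, 0, 0, 0⟩
def optsQ_191 : Row := ⟨[1288, 3312, 3312, 8832, 14168], 0, 1, 34481, 23, 202391168, 1, 0, 0, 0, 0, 0⟩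
def optsQ_192 : Row := ⟨[1288, 3312, 3542, 3542, 9108], 0, 1, 1247, 1, 26750472, 1, 0, 0, 0, 0, 0⟩
def optsQ_193 : Row := ⟨[1288, 3312, 4048, 4048, 6072], 0, 1, 1031153, 361, 1658944, 1, 0, 0, 0, 0, 0⟩
def optsQ_194 : Row := ⟨[1288, 3312, 6072, 6072, 14168], 0, 1, 39701, 1, 202391168, 1, 0, 0, 0, 0, 0⟩
def optsQ_195 : Row := ⟨[1518, 1518, 1518, 1518, 6072], 0, 1, 4821877, 1, 0, 0, 0, 0, 0, 0, 0⟩
def optsQ_196 : Row := ⟨[1518, 1518, 1518, 2277, 2277], 0, 1, 3628411, 169, 0, 0, 0, 0, 0, 0, 0⟩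
def optsQ_197 : Row := ⟨[1518, 1518, 1518, 9108, 13662], 0, 1, 15631661, 31, 0, 0, 0, 0, 0, 0, 0⟩
def optsQ_198 : Row := ⟨[1518, 1518, 2277, 5313, 6072], 0, 1, 307211, 13, 28227969, 0, 0, 0, 0, 0, 0⟩
def optsQ_199 : Row := ⟨[1518, 1518, 3312, 8832, 9108], 0, 1, 18456847, 23, 0, 0, 0, 0, 0, 0, 0⟩
def optsQ_200 : Row := ⟨[1518, 1518, 3542, 3542, 4048], 0, 1, 11191, 19, 25091528, 0, 0, 0, 0, 0, 0⟩
def optsQ_201 : Row := ⟨[1518, 1518, 3542, 13662, 14168], 0, 1, 19133, 31, 213277988, 0, 0, 0, 0, 0, 0⟩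
def optsQ_202 : Row := ⟨[1518, 1518, 5313, 5313, 13662], 0, 1, 19133, 31, 56455938, 0, 0, 0, 0, 0, 0⟩
def optsQ_203 : Row := ⟨[1518, 1518, 6072, 6072, 9108], 0, 1, 21250987, 1, 0, 0, 0, 0, 0, 0, 0⟩
def optsQ_204 : Row := ⟨[1518, 2277, 2277, 2277, 5313], 0, 1, 231173, 2197, 28227969, 0, 0, 0, 0, 0, 0⟩
def optsQ_205 : Row := ⟨[1518, 2277, 2277, 6072, 9108], 0, 1, 15991141, 169, 0, 0, 0, 0, 0, 0, 0⟩
def optsQ_206 : Row := ⟨[1518, 2277, 5313, 9108, 13662], 0, 1, 995923, 403, 28227969, 0, 0, 0, 0, 0, 0⟩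
def optsQ_207 : Row := ⟨[1518, 3312, 3542, 8832, 14168], 0, 1, 22591, 23, 213277988, 0, 0, 0, 0, 0, 0⟩
def optsQ_208 : Row := ⟨[1518, 3312, 5313, 5313, 8832], 0, 1, 22591, 23, 56455938, 0, 0, 0, 0, 0, 0⟩
def optsQ_209 : Row := ⟨[1518, 3542, 3542, 3542, 9108], 0, 1, 817, 1, 37637292, 0, 0, 0, 0, 0, 0⟩
def optsQ_210 : Row := ⟨[1518, 3542, 4048, 4048, 6072], 0, 1, 675583, 361, 12545764, 0, 0, 0, 0, 0, 0⟩
def optsQ_211 : Row := ⟨[1518, 3542, 6072, 6072, 14168], 0, 1, 26011, 1, 213277988, 0, 0, 0, 0, 0, 0⟩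
def optsQ_212 : Row := ⟨[1518, 4048, 4048, 4048, 13662], 0, 1, 29999537, 212629, 0, 0, 0, 0, 0, 0, 0⟩
def optsQ_213 : Row := ⟨[1518, 4048, 6072, 13662, 14168], 0, 1, 1155029, 589, 200732224, 0, 0, 0, 0, 0, 0⟩
def optsQ_214 : Row := ⟨[1518, 5313, 5313, 6072, 6072], 0, 1, 26011, 1, 56455938, 0, 0, 0, 0, 0, 0⟩
def optsQ_215 : Row := ⟨[1518, 6072, 9108, 9108, 13662], 0, 1, 68891891, 31, 0, 0, 0, 0, 0, 0, 0⟩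
def optsQ_216 : Row := ⟨[2277, 2277, 2277, 2277, 9108], 0, 1, 12033163, 28561, 0, 0, 0, 0, 0, 0, 0⟩
def optsQ_217 : Row := ⟨[2277, 2277, 3542, 4048, 4048], 0, 1, 508369, 61009, 12545764, 0, 0, 0, 0, 0, 0⟩
def optsQ_218 : Row := ⟨[2277, 2277, 3542, 6072, 14168], 0, 1, 19573, 169, 213277988, 0, 0, 0, 0, 0, 0⟩
def optsQ_219 : Row := ⟨[2277, 2277, 4048, 13662, 14168], 0, 1, 869147, 99541, 200732224, 0, 0, 0, 0, 0, 0⟩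
def optsQ_220 : Row := ⟨[2277, 2277, 5313, 5313, 6072], 0, 1, 19573, 169, 56455938, 0, 0, 0, 0, 0, 0⟩
def optsQ_221 : Row := ⟨[2277, 2277, 9108, 9108, 13662], 0, 1, 51840413, 5239, 0, 0, 0, 0, 0, 0, 0⟩
def optsQ_222 : Row := ⟨[2277, 3312, 5313, 8832, 9108], 0, 1, 1175921, 299, 28227969, 0, 0, 0, 0, 0, 0⟩
def optsQ_223 : Row := ⟨[2277, 3542, 3542, 4048, 5313], 0, 1, 713, 247, 53319497, 0, 0, 0, 0, 0, 0⟩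
def optsQ_224 : Row := ⟨[2277, 3542, 5313, 13662, 14168], 0, 1, 1219, 403, 241505957, 0, 0, 0, 0, 0, 0⟩
def optsQ_225 : Row := ⟨[2277, 5313, 5313, 5313, 13662], 0, 1, 1219, 403, 84683907, 0, 0, 0, 0, 0, 0⟩
def optsQ_226 : Row := ⟨[2277, 5313, 6072, 6072, 9108], 0, 1, 1353941, 13, 28227969, 0, 0, 0, 0, 0, 0⟩
def optsQ_227 : Row := ⟨[2772, 2772, 4048, 12672, 14168], 0, 1, 1457, 551, 216100192, 0, 0, 2, 0, 0, 0⟩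
def optsQ_228 : Row := ⟨[2772, 2772, 9108, 9108, 12672], 0, 1, 86903, 29, 15367968, 0, 0, 2, 0, 0, 0⟩
def optsQ_229 : Row := ⟨[3312, 4048, 4048, 4048, 8832], 0, 1, 35421499, 157757, 0, 0, 0, 0, 0, 0, 0⟩
def optsQ_230 : Row := ⟨[3312, 4048, 6072, 8832, 14168], 0, 1, 1363783, 437, 200732224, 0, 0, 0, 0, 0, 0⟩
def optsQ_231 : Row := ⟨[3312, 6072, 8832, 9108, 9108], 0, 1, 81343057, 23, 0, 0, 0, 0, 0, 0, 0⟩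
def optsQ_232 : Row := ⟨[3542, 3542, 3542, 3542, 14168], 0, 1, 1, 1, 250915280, 0, 0, 0, 0, 0, 0⟩
def optsQ_233 : Row := ⟨[3542, 3542, 3542, 5313, 5313], 0, 1, 1, 1, 94093230, 0, 0, 0, 0, 0, 0⟩
def optsQ_234 : Row := ⟨[3542, 3542, 4048, 6072, 9108], 0, 1, 49321, 19, 25091528, 0, 0, 0, 0, 0, 0⟩
def optsQ_235 : Row := ⟨[3542, 4048, 4048, 9108, 13662], 0, 1, 2190119, 11191, 12545764, 0, 0, 0, 0, 0, 0⟩
def optsQ_236 : Row := ⟨[3542, 6072, 9108, 13662, 14168], 0, 1, 84323, 31, 213277988, 0, 0, 0, 0, 0, 0⟩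
def optsQ_237 : Row := ⟨[4048, 4048, 4048, 6072, 6072], 0, 1, 40783879, 6859, 0, 0, 0, 0, 0, 0, 0⟩
def optsQ_238 : Row := ⟨[4048, 6072, 6072, 6072, 14168], 0, 1, 1570243, 19, 200732224, 0, 0, 0, 0, 0, 0⟩
def optsQ_239 : Row := ⟨[4048, 9108, 13662, 13662, 14168], 0, 1, 3744397, 18259, 200732224, 0, 0, 0, 0, 0, 0⟩
def optsQ_240 : Row := ⟨[5313, 5313, 6072, 9108, 13662], 0, 1, 84323, 31, 56455938, 0, 0, 0, 0, 0, 0⟩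
def optsQ_241 : Row := ⟨[6072, 6072, 6072, 9108, 9108], 0, 1, 93657397, 1, 0, 0, 0, 0, 0, 0, 0⟩
def optsQ_242 : Row := ⟨[9108, 9108, 9108, 13662, 13662], 0, 1, 223335163, 961, 0, 0, 0, 0, 0, 0, 0⟩

def optsQ : List Row := [optsQ_0, optsQ_1, optsQ_2, optsQ_3, optsQ_4, optsQ_5, optsQ_6, optsQ_7, optsQ_8, optsQ_9, optsQ_10, optsQ_11, optsQ_12, optsQ_13, optsQ_14, optsQ_15, optsQ_16, optsQ_17, optsQ_18, optsQ_19, optsQ_20, optsQ_21, optsQ_22, optsQ_23, optsQ_24, optsQ_25, optsQ_26, optsQ_27, optsQ_28, optsQ_29, optsQ_30, optsQ_31, optsQ_32, optsQ_33, optsQ_34, optsQ_35, optsQ_36, optsQ_37, optsQ_38, optsQ_39, optsQ_40, optsQ_41, optsQ_42, optsQ_43, optsQ_44, optsQ_45, optsQ_46, optsQ_47, optsQ_48, optsQ_49, optsQ_50, optsQ_51, optsQ_52, optsQ_53, optsQ_54, optsQ_55, optsQ_56, optsQ_57, optsQ_58, optsQ_59,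 optsQ_60, optsQ_61, optsQ_62, optsQ_63, optsQ_64, optsQ_65, optsQ_66, optsQ_67, optsQ_68, optsQ_69, optsQ_70, optsQ_71, optsQ_72, optsQ_73, optsQ_74, optsQ_75, optsQ_76, optsQ_77, optsQ_78, optsQ_79, optsQ_80, optsQ_81, optsQ_82, optsQ_83, optsQ_84, optsQ_85, optsQ_86, optsQ_87, optsQ_88, optsQ_89, optsQ_90, optsQ_91, optsQ_92, optsQ_93, optsQ_94, optsQ_95, optsQ_96, optsQ_97, optsQ_98, optsQ_99, optsQ_100, optsQ_101, optsQ_102, optsQ_103, optsQ_104, optsQ_105, optsQ_106, optsQ_107, optsQ_108, optsQ_109, optsQ_110, optsQ_111, optsQ_112, optsQ_113, optsQ_114, optsQ_115, optsQ_116, optsQ_117, optsQ_118, optsQ_119, optsQ_120, optsQ_121, optsQ_122, optsQ_123, optsQ_124, optsQ_125, optsQ_126, optsQ_127, optsQ_128, optsQ_129, optsQ_130, optsQ_131, optsQ_132, optsQ_133, optsQ_134, optsQ_135, optsQ_136, optsQ_137,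 optsQ_138, optsQ_139, optsQ_140, optsQ_141, optsQ_142, optsQ_143, optsQ_144, optsQ_145, optsQ_146, optsQ_147, optsQ_148, optsQ_149, optsQ_150, optsQ_151, optsQ_152, optsQ_153, optsQ_154, optsQ_155, optsQ_156, optsQ_157, optsQ_158, optsQ_159, optsQ_160, optsQ_161, optsQ_162, optsQ_163, optsQ_164, optsQ_165, optsQ_166, optsQ_167, optsQ_168, optsQ_169, optsQ_170, optsQ_171, optsQ_172, optsQ_173, optsQ_174, optsQ_175, optsQ_176, optsQ_177, optsQ_178, optsQ_179, optsQ_180, optsQ_181, optsQ_182, optsQ_183, optsQ_184, optsQ_185, optsQ_186, optsQ_187, optsQ_188, optsQ_189, optsQ_190, optsQ_191, optsQ_192, optsQ_193, optsQ_194, optsQ_195, optsQ_196, optsQ_197, optsQ_198, optsQ_199, optsQ_200, optsQ_201, optsQ_202, optsQ_203, optsQ_204, optsQ_205, optsQ_206, optsQ_207, optsQ_208, optsQ_209, optsQ_210, optsQ_211,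 optsQ_212, optsQ_213, optsQ_214, optsQ_215, optsQ_216, optsQ_217, optsQ_218, optsQ_219, optsQ_220, optsQ_221, optsQ_222, optsQ_223, optsQ_224, optsQ_225, optsQ_226, optsQ_227, optsQ_228, optsQ_229, optsQ_230, optsQ_231, optsQ_232, optsQ_233, optsQ_234, optsQ_235, optsQ_236, optsQ_237, optsQ_238, optsQ_239, optsQ_240, optsQ_241, optsQ_242]

def optsQTable : List (List (List Row)) :=
 [[[],
  [optsQ_59, optsQ_115, optsQ_125, optsQ_129, optsQ_232, optsQ_233],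
  [],
  [optsQ_148],
  [],
  [optsQ_107, optsQ_204],
  [],
  [optsQ_19, optsQ_237],
  [],
  [],
  [],
  [optsQ_97, optsQ_106, optsQ_198],
  [optsQ_5],
  [optsQ_43],
  [],
  [optsQ_32, optsQ_185, optsQ_199]],
 [[],
  [optsQ_36, optsQ_165],
  [],
  [optsQ_18, optsQ_47, optsQ_114, optsQ_190],
  [],
  [optsQ_13, optsQ_169, optsQ_194],
  [],
  [optsQ_24],
  [],
  [optsQ_25, optsQ_75],
  [],
  [optsQ_51, optsQ_219],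
  [],
  [optsQ_9, optsQ_99, optsQ_146],
  [],
  [optsQ_167]],
 [[],
  [optsQ_124],
  [],
  [optsQ_71],
  [],
  [optsQ_91],
  [],
  [optsQ_235],
  [],
  [],
  [],
  [],
  [optsQ_0, optsQ_3],
  [optsQ_53, optsQ_60, optsQ_154, optsQ_197],
  [],
  [optsQ_138]],
 [[],
  [optsQ_35, optsQ_118, optsQ_144, optsQ_164, optsQ_209],
  [],
  [],
  [optsQ_4],
  [optsQ_241],
  [],
  [],
  [],
  [],
  [],
  [optsQ_229],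
  [],
  [],
  [],
  [optsQ_94, optsQ_166, optsQ_207, optsQ_208]],
 [[],
  [optsQ_21, optsQ_184, optsQ_186],
  [],
  [optsQ_73],
  [],
  [optsQ_28],
  [],
  [optsQ_230],
  [],
  [],
  [],
  [optsQ_45],
  [],
  [optsQ_7, optsQ_135],
  [],
  [optsQ_34, optsQ_103, optsQ_161]],
 [[],
  [optsQ_76, optsQ_141, optsQ_231],
  [],
  [optsQ_11, optsQ_30, optsQ_206],
  [],
  [],
  [],
  [optsQ_10, optsQ_126],
  [],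
  [],
  [],
  [],
  [],
  [optsQ_88, optsQ_109],
  [],
  [optsQ_89, optsQ_122, optsQ_139, optsQ_140]],
 [[],
  [optsQ_8],
  [],
  [optsQ_12, optsQ_100, optsQ_147, optsQ_153, optsQ_236, optsQ_240],
  [],
  [optsQ_205],
  [],
  [optsQ_69, optsQ_78, optsQ_143],
  [],
  [optsQ_84, optsQ_174],
  [],
  [],
  [],
  [optsQ_50, optsQ_102],
  [],
  [optsQ_172, optsQ_175]],
 [[],
  [optsQ_29, optsQ_181, optsQ_222],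
  [],
  [optsQ_37, optsQ_46, optsQ_113],
  [],
  [optsQ_40, optsQ_95, optsQ_136, optsQ_195, optsQ_218, optsQ_220],
  [],
  [optsQ_74, optsQ_228],
  [],
  [optsQ_163],
  [],
  [optsQ_90, optsQ_149, optsQ_196],
  [],
  [],
  [],
  [optsQ_41, optsQ_131]],
 [[],
  [optsQ_27],
  [],
  [optsQ_67, optsQ_157],
  [],
  [optsQ_87, optsQ_104, optsQ_116],
  [],
  [optsQ_79],
  [],
  [optsQ_20, optsQ_63, optsQ_176],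
  [],
  [optsQ_120, optsQ_216],
  [optsQ_2, optsQ_6],
  [optsQ_239],
  [],
  [optsQ_145]],
 [[],
  [optsQ_137, optsQ_180],
  [],
  [optsQ_68],
  [],
  [],
  [],
  [optsQ_58],
  [],
  [],
  [],
  [optsQ_70, optsQ_211, optsQ_214],
  [],
  [optsQ_221],
  [],
  [optsQ_81, optsQ_93, optsQ_111]],
 [[],
  [optsQ_158],
  [],
  [optsQ_85, optsQ_178],
  [],
  [optsQ_44, optsQ_177],
  [],
  [],
  [],
  [optsQ_62, optsQ_80, optsQ_168, optsQ_234],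
  [],
  [optsQ_54, optsQ_98, optsQ_203],
  [],
  [optsQ_183],
  [],
  [optsQ_123, optsQ_132, optsQ_133]],
 [[],
  [optsQ_83, optsQ_191, optsQ_212, optsQ_227],
  [],
  [optsQ_110],
  [],
  [optsQ_156],
  [],
  [optsQ_38, optsQ_200],
  [],
  [optsQ_49, optsQ_189],
  [],
  [optsQ_56],
  [],
  [optsQ_121, optsQ_201, optsQ_202],
  [],
  [optsQ_31, optsQ_182]],
 [[],
  [optsQ_155],
  [],
  [optsQ_42, optsQ_52, optsQ_128, optsQ_224, optsQ_225, optsQ_238],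
  [],
  [optsQ_105],
  [],
  [optsQ_57, optsQ_66, optsQ_151],
  [],
  [optsQ_127, optsQ_187, optsQ_223],
  [],
  [optsQ_86, optsQ_101],
  [optsQ_1],
  [optsQ_170],
  [],
  [optsQ_134]],
 [[],
  [optsQ_17, optsQ_82, optsQ_130, optsQ_217],
  [],
  [],
  [],
  [optsQ_33, optsQ_150, optsQ_213, optsQ_226],
  [],
  [optsQ_61, optsQ_92, optsQ_162, optsQ_188],
  [],
  [],
  [],
  [optsQ_142],
  [],
  [optsQ_48, optsQ_112, optsQ_117],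
  [],
  [optsQ_39, optsQ_64, optsQ_77, optsQ_159, optsQ_192]],
 [[],
  [optsQ_72, optsQ_119, optsQ_171, optsQ_173],
  [],
  [],
  [],
  [optsQ_96],
  [],
  [optsQ_26],
  [],
  [optsQ_55],
  [],
  [optsQ_15],
  [],
  [optsQ_65, optsQ_152],
  [],
  [optsQ_22, optsQ_179]],
 [[],
  [optsQ_193],
  [],
  [optsQ_16, optsQ_215],
  [],
  [],
  [],
  [optsQ_14, optsQ_23],
  [],
  [optsQ_108],
  [],
  [optsQ_242],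
  [],
  [],
  [],
  [optsQ_160, optsQ_210]]]

def optsW : List Row :=
 [⟨[22, 253], 231, 1, 21, 1, 106722, 0, 2, 0, 0, 0, 0⟩,
  ⟨[22, 528], 506, 121, 33, 49, 0, 0, 0, 0, 0, 0, 0⟩,
  ⟨[23, 253], 276, 49, 35, 3, 0, 0, 0, 0, 0, 0, 0⟩,
  ⟨[23, 483], 506, 121, 5, 147, 233289, 1, 0, 0, 0, 0, 0⟩,
  ⟨[252, 483], 231, 1, 1, 1, 403515, 2, 3, 0, 0, 0, 0⟩,
  ⟨[252, 528], 276, 49, 11, 1, 63504, 1, 1, 0, 0, 0, 0⟩,
  ⟨[253, 253], 506, 121, 49, 49, 0, 0, 0, 0, 0, 0, 0⟩,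
  ⟨[253, 483], 736, 169, 7, 1, 233289, 1, 0, 0, 0, 0, 0⟩,
  ⟨[253, 1012], 759, 289, 91, 1, 0, 0, 0, 0, 0, 0, 0⟩,
  ⟨[253, 1518], 1771, 1, 133, 1, 6272882, 0, 0, 0, 0, 0, 0⟩,
  ⟨[253, 2277], 2024, 529, 161, 13, 0, 0, 0, 0, 0, 0, 0⟩,
  ⟨[483, 1242], 759, 289, 17, 1, 233289, 1, 0, 0, 0, 0, 0⟩,
  ⟨[483, 1288], 1771, 1, 1, 1, 8165115, 2, 0, 0, 0, 0, 0⟩,
  ⟨[483, 5313], 5796, 1, 1, 1, 95648490, 3, 0, 0, 0, 0, 0⟩,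
  ⟨[528, 6072], 5544, 1, 407, 1, 61471872, 0, 2, 0, 0, 0, 0⟩,
  ⟨[528, 12672], 12144, 2209, 517, 29, 0, 0, 0, 0, 0, 0, 0⟩,
  ⟨[1012, 1012], 2024, 529, 169, 1, 0, 0, 0, 0, 0, 0, 0⟩,
  ⟨[1012, 1288], 276, 49, 13, 1, 1658944, 1, 0, 0, 0, 0, 0⟩,
  ⟨[1012, 1518], 506, 121, 247, 49, 0, 0, 0, 0, 0, 0, 0⟩,
  ⟨[1012, 3542], 4554, 961, 13, 1, 12545764, 0, 0, 0, 0, 0, 0⟩,
  ⟨[1012, 4048], 3036, 841, 403, 5491, 0, 0, 0, 0, 0, 0, 0⟩,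
  ⟨[1012, 6072], 7084, 1, 481, 1, 100366112, 0, 0, 0, 0, 0, 0⟩,
  ⟨[1012, 9108], 8096, 1849, 559, 1, 0, 0, 0, 0, 0, 0, 0⟩,
  ⟨[1242, 1518], 276, 49, 323, 1, 0, 0, 0, 0, 0, 0, 0⟩,
  ⟨[1242, 3312], 4554, 961, 493, 1, 0, 0, 0, 0, 0, 0, 0⟩,
  ⟨[1288, 3312], 2024, 529, 29, 1, 1658944, 1, 0, 0, 0, 0, 0⟩,
  ⟨[1288, 14168], 15456, 1, 1, 1, 680167040, 3, 0, 0, 0, 0, 0⟩,
  ⟨[1518, 1518], 3036, 841, 361, 289, 0, 0, 0, 0, 0, 0, 0⟩,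
  ⟨[1518, 2277], 759, 289, 437, 13, 0, 0, 0, 0, 0, 0, 0⟩,
  ⟨[1518, 3542], 2024, 529, 19, 1, 12545764, 0, 0, 0, 0, 0, 0⟩,
  ⟨[1518, 5313], 6831, 1681, 19, 1, 28227969, 0, 0, 0, 0, 0, 0⟩,
  ⟨[1518, 6072], 4554, 961, 703, 1, 0, 0, 0, 0, 0, 0, 0⟩,
  ⟨[1518, 9108], 10626, 1, 817, 1, 225823752, 0, 0, 0, 0, 0, 0⟩,
  ⟨[1518, 13662], 12144, 2209, 1007, 31, 0, 0, 0, 0, 0, 0, 0⟩,
  ⟨[2277, 2277], 4554, 961, 529, 169, 0, 0, 0, 0, 0, 0, 0⟩,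
  ⟨[2277, 4048], 1771, 1, 713, 247, 6272882, 0, 0, 0, 0, 0, 0⟩,
  ⟨[2277, 5313], 3036, 841, 23, 3757, 28227969, 0, 0, 0, 0, 0, 0⟩,
  ⟨[2277, 9108], 6831, 1681, 989, 13, 0, 0, 0, 0, 0, 0, 0⟩,
  ⟨[2772, 2772], 5544, 1, 1, 1, 76839840, 0, 2, 2, 0, 0, 0⟩,
  ⟨[3312, 4048], 736, 169, 899, 19, 0, 0, 0, 0, 0, 0, 0⟩,
  ⟨[3312, 8832], 12144, 2209, 1189, 23, 0, 0, 0, 0, 0, 0, 0⟩,
  ⟨[3312, 9108], 5796, 1, 1247, 1, 67187232, 2, 0, 0, 0, 0, 0⟩,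
  ⟨[3542, 3542], 7084, 1, 1, 1, 125457640, 0, 0, 0, 0, 0, 0⟩,
  ⟨[3542, 4048], 506, 121, 31, 931, 12545764, 0, 0, 0, 0, 0, 0⟩,
  ⟨[3542, 5313], 1771, 1, 1, 1, 47046615, 0, 0, 0, 0, 0, 0⟩,
  ⟨[3542, 14168], 10626, 1, 1, 1, 439101740, 0, 0, 0, 0, 0, 0⟩,
  ⟨[4048, 4048], 8096, 1849, 961, 361, 0, 0, 0, 0, 0, 0, 0⟩,
  ⟨[4048, 6072], 2024, 529, 1147, 19, 0, 0, 0, 0, 0, 0, 0⟩,
  ⟨[5313, 5313], 10626, 1, 1, 1, 282279690, 0, 0, 0, 0, 0, 0⟩,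
  ⟨[5313, 6072], 759, 289, 37, 1, 28227969, 0, 0, 0, 0, 0, 0⟩,
  ⟨[6072, 6072], 12144, 2209, 1369, 1, 0, 0, 0, 0, 0, 0, 0⟩,
  ⟨[6072, 9108], 3036, 841, 1591, 289, 0, 0, 0, 0, 0, 0, 0⟩,
  ⟨[6072, 14168], 8096, 1849, 37, 1, 200732224, 0, 0, 0, 0, 0, 0⟩,
  ⟨[8832, 9108], 276, 49, 1763, 23, 0, 0, 0, 0, 0, 0, 0⟩,
  ⟨[9108, 13662], 4554, 961, 2279, 31, 0, 0, 0, 0, 0, 0, 0⟩,
  ⟨[13662, 14168], 506, 121, 53, 1519, 200732224, 0, 0, 0, 0, 0, 0⟩]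

def optsV : List Row :=
 [⟨[11, 11, 231, 506, 759, 11, 11, 231, 506, 759], 0, 2832489, 1, 49, 106722, 0, 2, 0, 0, 0, 0⟩,
  ⟨[11, 11, 231, 1771, 2024, 11, 11, 231, 1771, 2024], 0, 42849, 1, 1, 6379604, 0, 2, 0, 0, 0, 0⟩,
  ⟨[11, 11, 231, 6831, 7084, 11, 11, 231, 6831, 7084], 0, 136161, 1, 1, 100472834, 0, 2, 0, 0, 0, 0⟩,
  ⟨[231, 231, 5544, 5544, 10626, 231, 231, 5544, 5544, 10626], 0, 1, 1, 1, 348980940, 0, 8, 0, 0, 0, 0⟩,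
  ⟨[231, 276, 759, 5544, 5796, 231, 276, 759, 5544, 5796], 0, 14161, 1, 1, 128765826, 2, 4, 0, 0, 0, 0⟩,
  ⟨[231, 506, 1771, 3036, 5544, 231, 506, 1771, 3036, 5544], 0, 101761, 1, 14161, 67851476, 0, 4, 0, 0, 0, 0⟩,
  ⟨[231, 506, 2024, 5544, 6831, 231, 506, 2024, 5544, 6831], 0, 107599129, 1, 49, 61578594, 0, 4, 0, 0, 0, 0⟩,
  ⟨[231, 759, 759, 5544, 6831, 231, 759, 759, 5544, 6831], 0, 140398801, 1, 1, 61578594, 0, 4, 0, 0, 0, 0⟩,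
  ⟨[231, 759, 2024, 5544, 8096, 231, 759, 2024, 5544, 8096], 0, 282676969, 1, 1, 61578594, 0, 4, 0, 0, 0, 0⟩,
  ⟨[231, 759, 3036, 3036, 5544, 231, 759, 3036, 3036, 5544], 0, 204404209, 1, 83521, 61578594, 0, 4, 0, 0, 0, 0⟩,
  ⟨[231, 759, 4554, 5544, 10626, 231, 759, 4554, 5544, 10626], 0, 277729, 1, 1, 287402346, 0, 4, 0, 0, 0, 0⟩,
  ⟨[231, 759, 6336, 6336, 12144, 231, 759, 6336, 6336, 12144], 0, 1196466256561, 1, 1, 106722, 0, 2, 0, 0, 0, 0⟩,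
  ⟨[231, 1771, 1771, 1771, 5544, 231, 1771, 1771, 1771, 5544], 0, 1, 1, 1, 80397240, 0, 4, 0, 0, 0, 0⟩,
  ⟨[231, 1771, 4554, 5544, 8096, 231, 1771, 4554, 5544, 8096], 0, 1776889, 1, 1, 67851476, 0, 4, 0, 0, 0, 0⟩,
  ⟨[231, 1771, 5544, 7084, 10626, 231, 1771, 5544, 7084, 10626], 0, 1, 1, 1, 394041340, 0, 4, 0, 0, 0, 0⟩,
  ⟨[231, 3036, 4554, 5544, 6831, 231, 3036, 4554, 5544, 6831], 0, 1358585881, 1, 289, 61578594, 0, 4, 0, 0, 0, 0⟩,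
  ⟨[231, 5544, 6831, 10626, 12144, 231, 5544, 6831, 10626, 12144], 0, 3713329, 1, 1, 287402346, 0, 4, 0, 0, 0, 0⟩,
  ⟨[264, 264, 276, 5544, 5796, 264, 264, 276, 5544, 5796], 0, 30625, 1, 625, 128659104, 2, 2, 0, 0, 0, 0⟩,
  ⟨[264, 264, 759, 5544, 6831, 264, 264, 759, 5544, 6831], 0, 303630625, 1, 625, 61471872, 0, 2, 0, 0, 0, 0⟩,
  ⟨[264, 264, 2024, 5544, 8096, 264, 264, 2024, 5544, 8096], 0, 611325625, 1, 625, 61471872, 0, 2, 0, 0, 0, 0⟩,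
  ⟨[264, 264, 3036, 3036, 5544, 264, 264, 3036, 3036, 5544], 0, 442050625, 1, 52200625, 61471872, 0, 2, 0, 0, 0, 0⟩,
  ⟨[264, 264, 4554, 5544, 10626, 264, 264, 4554, 5544, 10626], 0, 600625, 1, 625, 287295624, 0, 2, 0, 0, 0, 0⟩,
  ⟨[276, 276, 736, 736, 2024, 276, 276, 736, 736, 2024], 0, 36276154369, 1, 1, 0, 0, 0, 0, 0, 0, 0⟩,
  ⟨[276, 276, 736, 5796, 7084, 276, 276, 736, 5796, 7084], 0, 405769, 1, 1, 167553344, 2, 0, 0, 0, 0, 0⟩,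
  ⟨[276, 276, 5796, 5796, 12144, 276, 276, 5796, 5796, 12144], 0, 5303809, 1, 1, 134374464, 4, 0, 0, 0, 0, 0⟩,
  ⟨[276, 506, 506, 736, 2024, 276, 506, 506, 736, 2024], 0, 64137082009, 1, 2401, 0, 0, 0, 0, 0, 0, 0⟩,
  ⟨[276, 506, 506, 5796, 7084, 276, 506, 506, 5796, 7084], 0, 717409, 1, 2401, 167553344, 2, 0, 0, 0, 0, 0⟩,
  ⟨[276, 506, 736, 759, 759, 276, 506, 736, 759, 759], 0, 83688125521, 1, 49, 0, 0, 0, 0, 0, 0, 0⟩,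
  ⟨[276, 506, 736, 3036, 4554, 276, 506, 736, 3036, 4554], 0, 809818210201, 1, 14161, 0, 0, 0, 0, 0, 0, 0⟩,
  ⟨[276, 506, 736, 10626, 12144, 276, 506, 736, 10626, 12144], 0, 2213420209, 1, 49, 225823752, 0, 0, 0, 0, 0, 0⟩,
  ⟨[276, 506, 2024, 4554, 5796, 276, 506, 2024, 4554, 5796], 0, 3014119801, 1, 49, 67187232, 2, 0, 0, 0, 0, 0⟩,
  ⟨[276, 736, 759, 1771, 2024, 276, 736, 759, 1771, 2024], 0, 1266007561, 1, 1, 6272882, 0, 0, 0, 0, 0, 0⟩,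
  ⟨[276, 736, 759, 6831, 7084, 276, 736, 759, 6831, 7084], 0, 4022984329, 1, 1, 100366112, 0, 0, 0, 0, 0, 0⟩,
  ⟨[276, 736, 1771, 1771, 4554, 276, 736, 1771, 1771, 4554], 0, 7958041, 1, 1, 12545764, 0, 0, 0, 0, 0, 0⟩,
  ⟨[276, 736, 2024, 2024, 3036, 276, 736, 2024, 2024, 3036], 0, 1948902552961, 1, 289, 0, 0, 0, 0, 0, 0, 0⟩,
  ⟨[276, 736, 2024, 7084, 8096, 276, 736, 2024, 7084, 8096], 0, 8099820001, 1, 1, 100366112, 0, 0, 0, 0, 0, 0⟩,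
  ⟨[276, 736, 3036, 3036, 7084, 276, 736, 3036, 3036, 7084], 0, 5856993961, 1, 83521, 100366112, 0, 0, 0, 0, 0, 0⟩,
  ⟨[276, 736, 3036, 8096, 12144, 276, 736, 3036, 8096, 12144], 0, 28445358229561, 1, 289, 0, 0, 0, 0, 0, 0, 0⟩,
  ⟨[276, 736, 4554, 4554, 8096, 276, 736, 4554, 4554, 8096], 0, 14140555514449, 1, 1, 0, 0, 0, 0, 0, 0, 0⟩,
  ⟨[276, 736, 4554, 7084, 10626, 276, 736, 4554, 7084, 10626], 0, 7958041, 1, 1, 326189864, 0, 0, 0, 0, 0, 0⟩,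
  ⟨[276, 759, 759, 4554, 5796, 276, 759, 759, 4554, 5796], 0, 3932920369, 1, 1, 67187232, 2, 0, 0, 0, 0, 0⟩,
  ⟨[276, 759, 1771, 5796, 7084, 276, 759, 1771, 5796, 7084], 0, 14161, 1, 1, 173826226, 2, 0, 0, 0, 0, 0⟩,
  ⟨[276, 759, 5796, 6831, 12144, 276, 759, 5796, 6831, 12144], 0, 52584451969, 1, 1, 67187232, 2, 0, 0, 0, 0, 0⟩,
  ⟨[276, 2024, 2024, 2024, 5796, 276, 2024, 2024, 2024, 5796], 0, 7253758561, 1, 1, 67187232, 2, 0, 0, 0, 0, 0⟩,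
  ⟨[276, 2024, 3036, 5796, 7084, 276, 2024, 3036, 5796, 7084], 0, 21799561, 1, 289, 167553344, 2, 0, 0, 0, 0, 0⟩,
  ⟨[276, 2024, 5796, 8096, 12144, 276, 2024, 5796, 8096, 12144], 0, 105872795161, 1, 1, 67187232, 2, 0, 0, 0, 0, 0⟩,
  ⟨[276, 3036, 3036, 5796, 12144, 276, 3036, 3036, 5796, 12144], 0, 76556802721, 1, 83521, 67187232, 2, 0, 0, 0, 0, 0⟩,
  ⟨[276, 3036, 4554, 4554, 5796, 276, 3036, 4554, 4554, 5796], 0, 38057376889, 1, 289, 67187232, 2, 0, 0, 0, 0, 0⟩,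
  ⟨[276, 4554, 5796, 10626, 12144, 276, 4554, 5796, 10626, 12144], 0, 104019601, 1, 1, 293010984, 2, 0, 0, 0, 0, 0⟩,
  ⟨[276, 5796, 7084, 7084, 8096, 276, 5796, 7084, 7084, 8096], 0, 90601, 1, 1, 267919456, 2, 0, 0, 0, 0, 0⟩,
  ⟨[506, 506, 506, 506, 2024, 506, 506, 506, 506, 2024], 0, 113395848049, 1, 5764801, 0, 0, 0, 0, 0, 0, 0⟩,
  ⟨[506, 506, 506, 759, 759, 506, 506, 506, 759, 759], 0, 147962546281, 1, 117649, 0, 0, 0, 0, 0, 0, 0⟩,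
  ⟨[506, 506, 506, 3036, 4554, 506, 506, 506, 3036, 4554], 0, 1431777371761, 1, 34000561, 0, 0, 0, 0, 0, 0, 0⟩,
  ⟨[506, 506, 506, 10626, 12144, 506, 506, 506, 10626, 12144], 0, 3913378249, 1, 117649, 225823752, 0, 0, 0, 0, 0, 0⟩,
  ⟨[506, 506, 759, 1771, 2024, 506, 506, 759, 1771, 2024], 0, 2238330721, 1, 2401, 6272882, 0, 0, 0, 0, 0, 0⟩,
  ⟨[506, 506, 759, 6831, 7084, 506, 506, 759, 6831, 7084], 0, 7112729569, 1, 2401, 100366112, 0, 0, 0, 0, 0, 0⟩,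
  ⟨[506, 506, 1771, 1771, 4554, 506, 506, 1771, 1771, 4554], 0, 14070001, 1, 2401, 12545764, 0, 0, 0, 0, 0, 0⟩,
  ⟨[506, 506, 2024, 2024, 3036, 506, 506, 2024, 2024, 3036], 0, 3445704900121, 1, 693889, 0, 0, 0, 0, 0, 0, 0⟩,
  ⟨[506, 506, 2024, 7084, 8096, 506, 506, 2024, 7084, 8096], 0, 14320669561, 1, 2401, 100366112, 0, 0, 0, 0, 0, 0⟩,
  ⟨[506, 506, 3036, 3036, 7084, 506, 506, 3036, 3036, 7084], 0, 10355301121, 1, 200533921, 100366112, 0, 0, 0, 0, 0, 0⟩,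
  ⟨[506, 506, 3036, 8096, 12144, 506, 506, 3036, 8096, 12144], 0, 50292052872721, 1, 693889, 0, 0, 0, 0, 0, 0, 0⟩,
  ⟨[506, 506, 4554, 4554, 8096, 506, 506, 4554, 4554, 8096], 0, 25000830006889, 1, 2401, 0, 0, 0, 0, 0, 0, 0⟩,
  ⟨[506, 506, 4554, 7084, 10626, 506, 506, 4554, 7084, 10626], 0, 14070001, 1, 2401, 326189864, 0, 0, 0, 0, 0, 0⟩,
  ⟨[506, 736, 4554, 12144, 15456, 506, 736, 4554, 12144, 15456], 0, 43410139201, 1, 49, 477775872, 2, 0, 0, 0, 0, 0⟩,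
  ⟨[506, 759, 759, 759, 1771, 506, 759, 759, 759, 1771], 0, 2920645849, 1, 49, 6272882, 0, 0, 0, 0, 0, 0⟩,
  ⟨[506, 759, 759, 2024, 3036, 506, 759, 759, 2024, 3036], 0, 4496066474449, 1, 14161, 0, 0, 0, 0, 0, 0, 0⟩,
  ⟨[506, 759, 759, 7084, 8096, 506, 759, 759, 7084, 8096], 0, 18686069809, 1, 49, 100366112, 0, 0, 0, 0, 0, 0⟩,
  ⟨[506, 759, 1771, 3036, 4554, 506, 759, 1771, 3036, 4554], 0, 28261980769, 1, 14161, 6272882, 0, 0, 0, 0, 0, 0⟩,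
  ⟨[506, 759, 1771, 10626, 12144, 506, 759, 1771, 10626, 12144], 0, 77246521, 1, 49, 232096634, 0, 0, 0, 0, 0, 0⟩,
  ⟨[506, 759, 2024, 4554, 6831, 506, 759, 2024, 4554, 6831], 0, 29883398498041, 1, 49, 0, 0, 0, 0, 0, 0, 0⟩,
  ⟨[506, 1771, 1771, 2024, 2024, 506, 1771, 1771, 2024, 2024], 0, 33860761, 1, 49, 12545764, 0, 0, 0, 0, 0, 0⟩,
  ⟨[506, 1771, 1771, 3036, 7084, 506, 1771, 1771, 3036, 7084], 0, 101761, 1, 14161, 112911876, 0, 0, 0, 0, 0, 0⟩,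
  ⟨[506, 1771, 1771, 8096, 12144, 506, 1771, 1771, 8096, 12144], 0, 494217361, 1, 49, 12545764, 0, 0, 0, 0, 0, 0⟩,
  ⟨[506, 1771, 2024, 6831, 7084, 506, 1771, 2024, 6831, 7084], 0, 107599129, 1, 49, 106638994, 0, 0, 0, 0, 0, 0⟩,
  ⟨[506, 1771, 3036, 6831, 12144, 506, 1771, 3036, 6831, 12144], 0, 377872072369, 1, 14161, 6272882, 0, 0, 0, 0, 0, 0⟩,
  ⟨[506, 1771, 4554, 4554, 6831, 506, 1771, 4554, 4554, 6831], 0, 187845094921, 1, 49, 6272882, 0, 0, 0, 0, 0, 0⟩,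
  ⟨[506, 2024, 2024, 4554, 8096, 506, 2024, 2024, 4554, 8096], 0, 60166813752529, 1, 49, 0, 0, 0, 0, 0, 0, 0⟩,
  ⟨[506, 2024, 2024, 7084, 10626, 506, 2024, 2024, 7084, 10626], 0, 33860761, 1, 49, 326189864, 0, 0, 0, 0, 0, 0⟩,
  ⟨[506, 2024, 3036, 3036, 4554, 506, 2024, 3036, 3036, 4554], 0, 43506727897369, 1, 4092529, 0, 0, 0, 0, 0, 0, 0⟩,
  ⟨[506, 2024, 3036, 10626, 12144, 506, 2024, 3036, 10626, 12144], 0, 118913935921, 1, 14161, 225823752, 0, 0, 0, 0, 0, 0⟩,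
  ⟨[506, 2024, 4554, 4554, 10626, 506, 2024, 4554, 4554, 10626], 0, 59113655689, 1, 49, 225823752, 0, 0, 0, 0, 0, 0⟩,
  ⟨[506, 2024, 6831, 6831, 12144, 506, 2024, 6831, 6831, 12144], 0, 399550966090441, 1, 49, 0, 0, 0, 0, 0, 0, 0⟩,
  ⟨[506, 3036, 4554, 7084, 8096, 506, 3036, 4554, 7084, 8096], 0, 180818001529, 1, 14161, 100366112, 0, 0, 0, 0, 0, 0⟩,
  ⟨[506, 3036, 7084, 7084, 10626, 506, 3036, 7084, 7084, 10626], 0, 101761, 1, 14161, 426555976, 0, 0, 0, 0, 0, 0⟩,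
  ⟨[506, 4554, 8096, 8096, 12144, 506, 4554, 8096, 8096, 12144], 0, 878169392369929, 1, 49, 0, 0, 0, 0, 0, 0, 0⟩,
  ⟨[506, 6831, 6831, 7084, 7084, 506, 6831, 6831, 7084, 7084], 0, 341917081, 1, 49, 200732224, 0, 0, 0, 0, 0, 0⟩,
  ⟨[506, 7084, 8096, 10626, 12144, 506, 7084, 8096, 10626, 12144], 0, 494217361, 1, 49, 326189864, 0, 0, 0, 0, 0, 0⟩,
  ⟨[736, 2024, 2024, 12144, 15456, 736, 2024, 2024, 12144, 15456], 0, 104470521961, 1, 1, 477775872, 2, 0, 0, 0, 0, 0⟩,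
  ⟨[736, 2024, 7084, 7084, 15456, 736, 2024, 7084, 7084, 15456], 0, 89401, 1, 1, 678508096, 2, 0, 0, 0, 0, 0⟩,
  ⟨[736, 3036, 7084, 12144, 15456, 736, 3036, 7084, 12144, 15456], 0, 313962961, 1, 289, 578141984, 2, 0, 0, 0, 0, 0⟩,
  ⟨[736, 4554, 4554, 7084, 15456, 736, 4554, 4554, 7084, 15456], 0, 156075049, 1, 1, 578141984, 2, 0, 0, 0, 0, 0⟩,
  ⟨[736, 8096, 12144, 12144, 15456, 736, 8096, 12144, 12144, 15456], 0, 1524807598561, 1, 1, 477775872, 2, 0, 0, 0, 0, 0⟩,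
  ⟨[759, 759, 759, 759, 3036, 759, 759, 759, 759, 3036], 0, 5866612007881, 1, 289, 0, 0, 0, 0, 0, 0, 0⟩,
  ⟨[759, 759, 759, 4554, 6831, 759, 759, 759, 4554, 6831], 0, 38992818602929, 1, 1, 0, 0, 0, 0, 0, 0, 0⟩,
  ⟨[759, 759, 1771, 1771, 2024, 759, 759, 1771, 1771, 2024], 0, 44182609, 1, 1, 12545764, 0, 0, 0, 0, 0, 0⟩,
  ⟨[759, 759, 1771, 6831, 7084, 759, 759, 1771, 6831, 7084], 0, 140398801, 1, 1, 106638994, 0, 0, 0, 0, 0, 0⟩,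
  ⟨[759, 759, 2024, 4554, 8096, 759, 759, 2024, 4554, 8096], 0, 78507591923401, 1, 1, 0, 0, 0, 0, 0, 0, 0⟩,
  ⟨[759, 759, 2024, 7084, 10626, 759, 759, 2024, 7084, 10626], 0, 44182609, 1, 1, 326189864, 0, 0, 0, 0, 0, 0⟩,
  ⟨[759, 759, 3036, 3036, 4554, 759, 759, 3036, 3036, 4554], 0, 56768976561361, 1, 83521, 0, 0, 0, 0, 0, 0, 0⟩,
  ⟨[759, 759, 3036, 10626, 12144, 759, 759, 3036, 10626, 12144], 0, 155162724649, 1, 289, 225823752, 0, 0, 0, 0, 0, 0⟩,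
  ⟨[759, 759, 4554, 4554, 10626, 759, 759, 4554, 4554, 10626], 0, 77133397441, 1, 1, 225823752, 0, 0, 0, 0, 0, 0⟩,
  ⟨[759, 759, 6831, 6831, 12144, 759, 759, 6831, 6831, 12144], 0, 521346939318529, 1, 1, 0, 0, 0, 0, 0, 0, 0⟩,
  ⟨[759, 1771, 1771, 1771, 4554, 759, 1771, 1771, 1771, 4554], 0, 277729, 1, 1, 18818646, 0, 0, 0, 0, 0, 0⟩,
  ⟨[759, 1771, 2024, 2024, 3036, 759, 1771, 2024, 2024, 3036], 0, 68015075209, 1, 289, 6272882, 0, 0, 0, 0, 0, 0⟩,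
  ⟨[759, 1771, 2024, 7084, 8096, 759, 1771, 2024, 7084, 8096], 0, 282676969, 1, 1, 106638994, 0, 0, 0, 0, 0, 0⟩,
  ⟨[759, 1771, 3036, 3036, 7084, 759, 1771, 3036, 3036, 7084], 0, 204404209, 1, 83521, 106638994, 0, 0, 0, 0, 0, 0⟩,
  ⟨[759, 1771, 3036, 8096, 12144, 759, 1771, 3036, 8096, 12144], 0, 992719300609, 1, 289, 6272882, 0, 0, 0, 0, 0, 0⟩,
  ⟨[759, 1771, 4554, 4554, 8096, 759, 1771, 4554, 4554, 8096], 0, 493493605081, 1, 1, 6272882, 0, 0, 0, 0, 0, 0⟩,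
  ⟨[759, 1771, 4554, 7084, 10626, 759, 1771, 4554, 7084, 10626], 0, 277729, 1, 1, 332462746, 0, 0, 0, 0, 0, 0⟩,
  ⟨[759, 2024, 2024, 2024, 6831, 759, 2024, 2024, 2024, 6831], 0, 71917167199201, 1, 1, 0, 0, 0, 0, 0, 0, 0⟩,
  ⟨[759, 2024, 3036, 6831, 7084, 759, 2024, 3036, 6831, 7084], 0, 216131080201, 1, 289, 100366112, 0, 0, 0, 0, 0, 0⟩,
  ⟨[759, 2024, 6831, 8096, 12144, 759, 2024, 6831, 8096, 12144], 0, 1049672586619801, 1, 1, 0, 0, 0, 0, 0, 0, 0⟩,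
  ⟨[759, 3036, 3036, 6831, 12144, 759, 3036, 3036, 6831, 12144], 0, 759020077001761, 1, 83521, 0, 0, 0, 0, 0, 0, 0⟩,
  ⟨[759, 3036, 4554, 4554, 6831, 759, 3036, 4554, 4554, 6831], 0, 377318698144249, 1, 289, 0, 0, 0, 0, 0, 0, 0⟩,
  ⟨[759, 4554, 6831, 10626, 12144, 759, 4554, 6831, 10626, 12144], 0, 1031299149841, 1, 1, 225823752, 0, 0, 0, 0, 0, 0⟩,
  ⟨[759, 6831, 7084, 7084, 8096, 759, 6831, 7084, 7084, 8096], 0, 898260841, 1, 1, 200732224, 0, 0, 0, 0, 0, 0⟩,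
  ⟨[1771, 1771, 1771, 1771, 7084, 1771, 1771, 1771, 1771, 7084], 0, 1, 1, 1, 125457640, 0, 0, 0, 0, 0, 0⟩,
  ⟨[1771, 1771, 1771, 6831, 12144, 1771, 1771, 1771, 6831, 12144], 0, 3713329, 1, 1, 18818646, 0, 0, 0, 0, 0, 0⟩,
  ⟨[1771, 1771, 2024, 3036, 4554, 1771, 1771, 2024, 3036, 4554], 0, 427538329, 1, 289, 12545764, 0, 0, 0, 0, 0, 0⟩,
  ⟨[1771, 1771, 2024, 10626, 12144, 1771, 1771, 2024, 10626, 12144], 0, 1168561, 1, 1, 238369516, 0, 0, 0, 0, 0, 0⟩,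
  ⟨[1771, 1771, 4554, 7084, 8096, 1771, 1771, 4554, 7084, 8096], 0, 1776889, 1, 1, 112911876, 0, 0, 0, 0, 0, 0⟩,
  ⟨[1771, 1771, 7084, 7084, 10626, 1771, 1771, 7084, 7084, 10626], 0, 1, 1, 1, 439101740, 0, 0, 0, 0, 0, 0⟩,
  ⟨[1771, 2024, 2024, 4554, 6831, 1771, 2024, 2024, 4554, 6831], 0, 452066624881, 1, 1, 6272882, 0, 0, 0, 0, 0, 0⟩,
  ⟨[1771, 3036, 4554, 6831, 7084, 1771, 3036, 4554, 6831, 7084], 0, 1358585881, 1, 289, 106638994, 0, 0, 0, 0, 0, 0⟩,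
  ⟨[1771, 4554, 6831, 8096, 12144, 1771, 4554, 6831, 8096, 12144], 0, 6598173453481, 1, 1, 6272882, 0, 0, 0, 0, 0, 0⟩,
  ⟨[1771, 6831, 7084, 10626, 12144, 1771, 6831, 7084, 10626, 12144], 0, 3713329, 1, 1, 332462746, 0, 0, 0, 0, 0, 0⟩,
  ⟨[2024, 2024, 2024, 2024, 8096, 2024, 2024, 2024, 2024, 8096], 0, 144797011784569, 1, 1, 0, 0, 0, 0, 0, 0, 0⟩,
  ⟨[2024, 2024, 2024, 3036, 3036, 2024, 2024, 2024, 3036, 3036], 0, 104702971607809, 1, 83521, 0, 0, 0, 0, 0, 0, 0⟩,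
  ⟨[2024, 2024, 2024, 4554, 10626, 2024, 2024, 2024, 4554, 10626], 0, 142262489329, 1, 1, 225823752, 0, 0, 0, 0, 0, 0⟩,
  ⟨[2024, 2024, 3036, 7084, 8096, 2024, 2024, 3036, 7084, 8096], 0, 435155273569, 1, 289, 100366112, 0, 0, 0, 0, 0, 0⟩,
  ⟨[2024, 2024, 8096, 8096, 12144, 2024, 2024, 8096, 8096, 12144], 0, 2113396005625969, 1, 1, 0, 0, 0, 0, 0, 0, 0⟩,
  ⟨[2024, 3036, 3036, 3036, 7084, 2024, 3036, 3036, 3036, 7084], 0, 314661536809, 1, 24137569, 100366112, 0, 0, 0, 0, 0, 0⟩,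
  ⟨[2024, 3036, 3036, 8096, 12144, 2024, 3036, 3036, 8096, 12144], 0, 1528200335393209, 1, 83521, 0, 0, 0, 0, 0, 0, 0⟩,
  ⟨[2024, 3036, 4554, 4554, 8096, 2024, 3036, 4554, 4554, 8096], 0, 759688153878481, 1, 289, 0, 0, 0, 0, 0, 0, 0⟩,
  ⟨[2024, 3036, 4554, 7084, 10626, 2024, 3036, 4554, 7084, 10626], 0, 427538329, 1, 289, 326189864, 0, 0, 0, 0, 0, 0⟩,
  ⟨[2024, 4554, 6831, 6831, 7084, 2024, 4554, 6831, 6831, 7084], 0, 1436529293809, 1, 1, 100366112, 0, 0, 0, 0, 0, 0⟩,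
  ⟨[2024, 4554, 8096, 10626, 12144, 2024, 4554, 8096, 10626, 12144], 0, 2076403186729, 1, 1, 225823752, 0, 0, 0, 0, 0, 0⟩,
  ⟨[2024, 5544, 9856, 9856, 12144, 2024, 5544, 9856, 9856, 12144], 0, 1168561, 1, 1, 450034816, 0, 2, 4, 0, 0, 0⟩,
  ⟨[2024, 5796, 7084, 12144, 15456, 2024, 5796, 7084, 12144, 15456], 0, 1168561, 1, 1, 645329216, 4, 0, 0, 0, 0, 0⟩,
  ⟨[2024, 7084, 7084, 8096, 8096, 2024, 7084, 7084, 8096, 8096], 0, 1808545729, 1, 1, 200732224, 0, 0, 0, 0, 0, 0⟩,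
  ⟨[2024, 7084, 10626, 10626, 12144, 2024, 7084, 10626, 10626, 12144], 0, 1168561, 1, 1, 552013616, 0, 0, 0, 0, 0, 0⟩,
  ⟨[3024, 3024, 5544, 5796, 5796, 3024, 3024, 5544, 5796, 5796], 0, 1, 1, 1, 232424640, 8, 2, 4, 0, 0, 0⟩,
  ⟨[3036, 3036, 3036, 3036, 12144, 3036, 3036, 3036, 3036, 12144], 0, 1105044326230849, 1, 6975757441, 0, 0, 0, 0, 0, 0, 0⟩,
  ⟨[3036, 3036, 3036, 4554, 4554, 3036, 3036, 3036, 4554, 4554], 0, 549331828233241, 1, 24137569, 0, 0, 0, 0, 0, 0, 0⟩,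
  ⟨[3036, 3036, 4554, 10626, 12144, 3036, 3036, 4554, 10626, 12144], 0, 1501450763569, 1, 83521, 225823752, 0, 0, 0, 0, 0, 0⟩,
  ⟨[3036, 3036, 7084, 7084, 8096, 3036, 3036, 7084, 7084, 8096], 0, 1307762569, 1, 83521, 200732224, 0, 0, 0, 0, 0, 0⟩,
  ⟨[3036, 4554, 4554, 4554, 10626, 3036, 4554, 4554, 4554, 10626], 0, 746390595721, 1, 289, 225823752, 0, 0, 0, 0, 0, 0⟩,
  ⟨[3036, 4554, 6831, 6831, 12144, 3036, 4554, 6831, 6831, 12144], 0, 5044876350907849, 1, 289, 0, 0, 0, 0, 0, 0, 0⟩,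
  ⟨[3036, 5796, 12144, 12144, 15456, 3036, 5796, 12144, 12144, 15456], 0, 4103811721, 1, 289, 544963104, 4, 0, 0, 0, 0, 0⟩,
  ⟨[3036, 7084, 8096, 8096, 12144, 3036, 7084, 8096, 8096, 12144], 0, 6351342514969, 1, 289, 100366112, 0, 0, 0, 0, 0, 0⟩,
  ⟨[3036, 10626, 10626, 12144, 12144, 3036, 10626, 10626, 12144, 12144], 0, 4103811721, 1, 289, 451647504, 0, 0, 0, 0, 0, 0⟩,
  ⟨[4554, 4554, 4554, 6831, 6831, 4554, 4554, 4554, 6831, 6831], 0, 2507873289126241, 1, 1, 0, 0, 0, 0, 0, 0, 0⟩,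
  ⟨[4554, 4554, 5796, 12144, 15456, 4554, 4554, 5796, 12144, 15456], 0, 2040057889, 1, 1, 544963104, 4, 0, 0, 0, 0, 0⟩,
  ⟨[4554, 4554, 7084, 8096, 8096, 4554, 4554, 7084, 8096, 8096], 0, 3157334518321, 1, 1, 100366112, 0, 0, 0, 0, 0, 0⟩,
  ⟨[4554, 4554, 10626, 10626, 12144, 4554, 4554, 10626, 10626, 12144], 0, 2040057889, 1, 1, 451647504, 0, 0, 0, 0, 0, 0⟩,
  ⟨[4554, 7084, 7084, 8096, 10626, 4554, 7084, 7084, 8096, 10626], 0, 1776889, 1, 1, 426555976, 0, 0, 0, 0, 0, 0⟩,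
  ⟨[5544, 7084, 7084, 9856, 9856, 5544, 7084, 7084, 9856, 9856], 0, 1, 1, 1, 650767040, 0, 2, 4, 0, 0, 0⟩,
  ⟨[5796, 7084, 7084, 7084, 15456, 5796, 7084, 7084, 7084, 15456], 0, 1, 1, 1, 846061440, 4, 0, 0, 0, 0, 0⟩,
  ⟨[6831, 6831, 10626, 12144, 12144, 6831, 6831, 10626, 12144, 12144], 0, 13788812262241, 1, 1, 225823752, 0, 0, 0, 0, 0, 0⟩,
  ⟨[7084, 7084, 7084, 10626, 10626, 7084, 7084, 7084, 10626, 10626], 0, 1, 1, 1, 752745840, 0, 0, 0, 0, 0, 0⟩,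
  ⟨[8096, 8096, 8096, 12144, 12144, 8096, 8096, 8096, 12144, 12144], 0, 30846235164307369, 1, 1, 0, 0, 0, 0, 0, 0, 0⟩]

def restDegs : List ℕ := [770, 1540, 4830, 8855, 10395, 12880]

def rest_0 : ℕ × ℕ × ℕ × ℕ := (0, 0, 0, 0)
def rest_1 : ℕ × ℕ × ℕ × ℕ := (165894400, 1, 0, 0)
def rest_2 : ℕ × ℕ × ℕ × ℕ := (108056025, 0, 1, 0)
def rest_3 : ℕ × ℕ × ℕ × ℕ := (216112050, 0, 2, 0)
def rest_4 : ℕ × ℕ × ℕ × ℕ := (78411025, 0, 0, 0)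
def rest_5 : ℕ × ℕ × ℕ × ℕ := (244305425, 1, 0, 0)
def rest_6 : ℕ × ℕ × ℕ × ℕ := (186467050, 0, 1, 0)
def rest_7 : ℕ × ℕ × ℕ × ℕ := (156822050, 0, 0, 0)
def rest_8 : ℕ × ℕ × ℕ × ℕ := (235233075, 0, 0, 0)
def rest_9 : ℕ × ℕ × ℕ × ℕ := (23328900, 1, 0, 0)
def rest_10 : ℕ × ℕ × ℕ × ℕ := (189223300, 2, 0, 0)
def rest_11 : ℕ × ℕ × ℕ × ℕ := (131384925, 1, 1, 0)
def rest_12 : ℕ × ℕ × ℕ × ℕ := (239440950, 1, 2, 0)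
def rest_13 : ℕ × ℕ × ℕ × ℕ := (101739925, 1, 0, 0)
def rest_14 : ℕ × ℕ × ℕ × ℕ := (209795950, 1, 1, 0)
def rest_15 : ℕ × ℕ × ℕ × ℕ := (180150950, 1, 0, 0)
def rest_16 : ℕ × ℕ × ℕ × ℕ := (46657800, 2, 0, 0)
def rest_17 : ℕ × ℕ × ℕ × ℕ := (212552200, 3, 0, 0)
def rest_18 : ℕ × ℕ × ℕ × ℕ := (154713825, 2, 1, 0)
def rest_19 : ℕ × ℕ × ℕ × ℕ := (125068825, 2, 0, 0)
def rest_20 : ℕ × ℕ × ℕ × ℕ := (233124850, 2, 1, 0)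
def rest_21 : ℕ × ℕ × ℕ × ℕ := (203479850, 2, 0, 0)
def rest_22 : ℕ × ℕ × ℕ × ℕ := (69986700, 3, 0, 0)
def rest_23 : ℕ × ℕ × ℕ × ℕ := (235881100, 4, 0, 0)
def rest_24 : ℕ × ℕ × ℕ × ℕ := (178042725, 3, 1, 0)
def rest_25 : ℕ × ℕ × ℕ × ℕ := (148397725, 3, 0, 0)
def rest_26 : ℕ × ℕ × ℕ × ℕ := (226808750, 3, 0, 0)
def rest_27 : ℕ × ℕ × ℕ × ℕ := (93315600, 4, 0, 0)
def rest_28 : ℕ × ℕ × ℕ × ℕ := (201371625, 4, 1, 0)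
def rest_29 : ℕ × ℕ × ℕ × ℕ := (171726625, 4, 0, 0)
def rest_30 : ℕ × ℕ × ℕ × ℕ := (116644500, 5, 0, 0)
def rest_31 : ℕ × ℕ × ℕ × ℕ := (224700525, 5, 1, 0)
def rest_32 : ℕ × ℕ × ℕ × ℕ := (195055525, 5, 0, 0)
def rest_33 : ℕ × ℕ × ℕ × ℕ := (139973400, 6, 0, 0)
def rest_34 : ℕ × ℕ × ℕ × ℕ := (218384425, 6, 0, 0)
def rest_35 : ℕ × ℕ × ℕ × ℕ := (163302300, 7, 0, 0)
def rest_36 : ℕ × ℕ × ℕ × ℕ := (241713325, 7, 0, 0)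
def rest_37 : ℕ × ℕ × ℕ × ℕ := (186631200, 8, 0, 0)
def rest_38 : ℕ × ℕ × ℕ × ℕ := (209960100, 9, 0, 0)
def rest_39 : ℕ × ℕ × ℕ × ℕ := (233289000, 10, 0, 0)
def rest_40 : ℕ × ℕ × ℕ × ℕ := (2371600, 0, 1, 0)
def rest_41 : ℕ × ℕ × ℕ × ℕ := (168266000, 1, 1, 0)
def rest_42 : ℕ × ℕ × ℕ × ℕ := (110427625, 0, 2, 0)
def rest_43 : ℕ × ℕ × ℕ × ℕ := (218483650, 0, 3, 0)
def rest_44 : ℕ × ℕ × ℕ × ℕ := (80782625, 0, 1, 0)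
def rest_45 : ℕ × ℕ × ℕ × ℕ := (188838650, 0, 2, 0)
def rest_46 : ℕ × ℕ × ℕ × ℕ := (159193650, 0, 1, 0)
def rest_47 : ℕ × ℕ × ℕ × ℕ := (237604675, 0, 1, 0)
def rest_48 : ℕ × ℕ × ℕ × ℕ := (25700500, 1, 1, 0)
def rest_49 : ℕ × ℕ × ℕ × ℕ := (191594900, 2, 1, 0)
def rest_50 : ℕ × ℕ × ℕ × ℕ := (133756525, 1, 2, 0)
def rest_51 : ℕ × ℕ × ℕ × ℕ := (241812550, 1, 3, 0)
def rest_52 : ℕ × ℕ × ℕ × ℕ := (104111525, 1, 1, 0)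
def rest_53 : ℕ × ℕ × ℕ × ℕ := (212167550, 1, 2, 0)
def rest_54 : ℕ × ℕ × ℕ × ℕ := (182522550, 1, 1, 0)
def rest_55 : ℕ × ℕ × ℕ × ℕ := (49029400, 2, 1, 0)
def rest_56 : ℕ × ℕ × ℕ × ℕ := (214923800, 3, 1, 0)
def rest_57 : ℕ × ℕ × ℕ × ℕ := (157085425, 2, 2, 0)
def rest_58 : ℕ × ℕ × ℕ × ℕ := (127440425, 2, 1, 0)
def rest_59 : ℕ × ℕ × ℕ × ℕ := (235496450, 2, 2, 0)
def rest_60 : ℕ × ℕ × ℕ × ℕ := (205851450, 2, 1, 0)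
def rest_61 : ℕ × ℕ × ℕ × ℕ := (72358300, 3, 1, 0)
def rest_62 : ℕ × ℕ × ℕ × ℕ := (238252700, 4, 1, 0)
def rest_63 : ℕ × ℕ × ℕ × ℕ := (180414325, 3, 2, 0)
def rest_64 : ℕ × ℕ × ℕ × ℕ := (150769325, 3, 1, 0)
def rest_65 : ℕ × ℕ × ℕ × ℕ := (229180350, 3, 1, 0)
def rest_66 : ℕ × ℕ × ℕ × ℕ := (95687200, 4, 1, 0)
def rest_67 : ℕ × ℕ × ℕ × ℕ := (203743225, 4, 2, 0)
def rest_68 : ℕ × ℕ × ℕ × ℕ := (174098225, 4, 1, 0)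
def rest_69 : ℕ × ℕ × ℕ × ℕ := (119016100, 5, 1, 0)
def rest_70 : ℕ × ℕ × ℕ × ℕ := (227072125, 5, 2, 0)
def rest_71 : ℕ × ℕ × ℕ × ℕ := (197427125, 5, 1, 0)
def rest_72 : ℕ × ℕ × ℕ × ℕ := (142345000, 6, 1, 0)
def rest_73 : ℕ × ℕ × ℕ × ℕ := (220756025, 6, 1, 0)
def rest_74 : ℕ × ℕ × ℕ × ℕ := (165673900, 7, 1, 0)
def rest_75 : ℕ × ℕ × ℕ × ℕ := (244084925, 7, 1, 0)
def rest_76 : ℕ × ℕ × ℕ × ℕ := (189002800, 8, 1, 0)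
def rest_77 : ℕ × ℕ × ℕ × ℕ := (212331700, 9, 1, 0)
def rest_78 : ℕ × ℕ × ℕ × ℕ := (235660600, 10, 1, 0)
def rest_79 : ℕ × ℕ × ℕ × ℕ := (4743200, 0, 2, 0)
def rest_80 : ℕ × ℕ × ℕ × ℕ := (170637600, 1, 2, 0)
def rest_81 : ℕ × ℕ × ℕ × ℕ := (112799225, 0, 3, 0)
def rest_82 : ℕ × ℕ × ℕ × ℕ := (220855250, 0, 4, 0)
def rest_83 : ℕ × ℕ × ℕ × ℕ := (83154225, 0, 2, 0)
def rest_84 : ℕ × ℕ × ℕ × ℕ := (191210250, 0, 3, 0)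
def rest_85 : ℕ × ℕ × ℕ × ℕ := (161565250, 0, 2, 0)
def rest_86 : ℕ × ℕ × ℕ × ℕ := (239976275, 0, 2, 0)
def rest_87 : ℕ × ℕ × ℕ × ℕ := (28072100, 1, 2, 0)
def rest_88 : ℕ × ℕ × ℕ × ℕ := (193966500, 2, 2, 0)
def rest_89 : ℕ × ℕ × ℕ × ℕ := (136128125, 1, 3, 0)
def rest_90 : ℕ × ℕ × ℕ × ℕ := (244184150, 1, 4, 0)
def rest_91 : ℕ × ℕ × ℕ × ℕ := (106483125, 1, 2, 0)
def rest_92 : ℕ × ℕ × ℕ × ℕ := (214539150, 1, 3, 0)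
def rest_93 : ℕ × ℕ × ℕ × ℕ := (184894150, 1, 2, 0)
def rest_94 : ℕ × ℕ × ℕ × ℕ := (51401000, 2, 2, 0)
def rest_95 : ℕ × ℕ × ℕ × ℕ := (217295400, 3, 2, 0)
def rest_96 : ℕ × ℕ × ℕ × ℕ := (159457025, 2, 3, 0)
def rest_97 : ℕ × ℕ × ℕ × ℕ := (129812025, 2, 2, 0)
def rest_98 : ℕ × ℕ × ℕ × ℕ := (237868050, 2, 3, 0)
def rest_99 : ℕ × ℕ × ℕ × ℕ := (208223050, 2, 2, 0)
def rest_100 : ℕ × ℕ × ℕ × ℕ := (74729900, 3, 2, 0)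
def rest_101 : ℕ × ℕ × ℕ × ℕ := (240624300, 4, 2, 0)
def rest_102 : ℕ × ℕ × ℕ × ℕ := (182785925, 3, 3, 0)
def rest_103 : ℕ × ℕ × ℕ × ℕ := (153140925, 3, 2, 0)
def rest_104 : ℕ × ℕ × ℕ × ℕ := (231551950, 3, 2, 0)
def rest_105 : ℕ × ℕ × ℕ × ℕ := (98058800, 4, 2, 0)
def rest_106 : ℕ × ℕ × ℕ × ℕ := (206114825, 4, 3, 0)
def rest_107 : ℕ × ℕ × ℕ × ℕ := (176469825, 4, 2, 0)
def rest_108 : ℕ × ℕ × ℕ × ℕ := (121387700, 5, 2, 0)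
def rest_109 : ℕ × ℕ × ℕ × ℕ := (229443725, 5, 3, 0)
def rest_110 : ℕ × ℕ × ℕ × ℕ := (199798725, 5, 2, 0)
def rest_111 : ℕ × ℕ × ℕ × ℕ := (144716600, 6, 2, 0)
def rest_112 : ℕ × ℕ × ℕ × ℕ := (223127625, 6, 2, 0)
def rest_113 : ℕ × ℕ × ℕ × ℕ := (168045500, 7, 2, 0)
def rest_114 : ℕ × ℕ × ℕ × ℕ := (191374400, 8, 2, 0)
def rest_115 : ℕ × ℕ × ℕ × ℕ := (214703300, 9, 2, 0)
def rest_116 : ℕ × ℕ × ℕ × ℕ := (238032200, 10, 2, 0)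
def rest_117 : ℕ × ℕ × ℕ × ℕ := (7114800, 0, 3, 0)
def rest_118 : ℕ × ℕ × ℕ × ℕ := (173009200, 1, 3, 0)
def rest_119 : ℕ × ℕ × ℕ × ℕ := (115170825, 0, 4, 0)
def rest_120 : ℕ × ℕ × ℕ × ℕ := (223226850, 0, 5, 0)
def rest_121 : ℕ × ℕ × ℕ × ℕ := (85525825, 0, 3, 0)
def rest_122 : ℕ × ℕ × ℕ × ℕ := (193581850, 0, 4, 0)
def rest_123 : ℕ × ℕ × ℕ × ℕ := (163936850, 0, 3, 0)
def rest_124 : ℕ × ℕ × ℕ × ℕ := (242347875, 0, 3, 0)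
def rest_125 : ℕ × ℕ × ℕ × ℕ := (30443700, 1, 3, 0)
def rest_126 : ℕ × ℕ × ℕ × ℕ := (196338100, 2, 3, 0)
def rest_127 : ℕ × ℕ × ℕ × ℕ := (138499725, 1, 4, 0)
def rest_128 : ℕ × ℕ × ℕ × ℕ := (108854725, 1, 3, 0)
def rest_129 : ℕ × ℕ × ℕ × ℕ := (216910750, 1, 4, 0)
def rest_130 : ℕ × ℕ × ℕ × ℕ := (187265750, 1, 3, 0)
def rest_131 : ℕ × ℕ × ℕ × ℕ := (53772600, 2, 3, 0)
def rest_132 : ℕ × ℕ × ℕ × ℕ := (219667000, 3, 3, 0)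
def rest_133 : ℕ × ℕ × ℕ × ℕ := (161828625, 2, 4, 0)
def rest_134 : ℕ × ℕ × ℕ × ℕ := (132183625, 2, 3, 0)
def rest_135 : ℕ × ℕ × ℕ × ℕ := (240239650, 2, 4, 0)
def rest_136 : ℕ × ℕ × ℕ × ℕ := (210594650, 2, 3, 0)
def rest_137 : ℕ × ℕ × ℕ × ℕ := (77101500, 3, 3, 0)
def rest_138 : ℕ × ℕ × ℕ × ℕ := (242995900, 4, 3, 0)
def rest_139 : ℕ × ℕ × ℕ × ℕ := (185157525, 3, 4, 0)
def rest_140 : ℕ × ℕ × ℕ × ℕ := (155512525, 3, 3, 0)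
def rest_141 : ℕ × ℕ × ℕ × ℕ := (233923550, 3, 3, 0)
def rest_142 : ℕ × ℕ × ℕ × ℕ := (100430400, 4, 3, 0)
def rest_143 : ℕ × ℕ × ℕ × ℕ := (208486425, 4, 4, 0)
def rest_144 : ℕ × ℕ × ℕ × ℕ := (178841425, 4, 3, 0)
def rest_145 : ℕ × ℕ × ℕ × ℕ := (123759300, 5, 3, 0)
def rest_146 : ℕ × ℕ × ℕ × ℕ := (231815325, 5, 4, 0)
def rest_147 : ℕ × ℕ × ℕ × ℕ := (202170325, 5, 3, 0)
def rest_148 : ℕ × ℕ × ℕ × ℕ := (147088200, 6, 3, 0)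
def rest_149 : ℕ × ℕ × ℕ × ℕ := (225499225, 6, 3, 0)
def rest_150 : ℕ × ℕ × ℕ × ℕ := (170417100, 7, 3, 0)
def rest_151 : ℕ × ℕ × ℕ × ℕ := (193746000, 8, 3, 0)
def rest_152 : ℕ × ℕ × ℕ × ℕ := (217074900, 9, 3, 0)
def rest_153 : ℕ × ℕ × ℕ × ℕ := (240403800, 10, 3, 0)
def rest_154 : ℕ × ℕ × ℕ × ℕ := (9486400, 0, 4, 0)
def rest_155 : ℕ × ℕ × ℕ × ℕ := (175380800, 1, 4, 0)
def rest_156 : ℕ × ℕ × ℕ × ℕ := (117542425, 0, 5, 0)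
def rest_157 : ℕ × ℕ × ℕ × ℕ := (225598450, 0, 6, 0)
def rest_158 : ℕ × ℕ × ℕ × ℕ := (87897425, 0, 4, 0)
def rest_159 : ℕ × ℕ × ℕ × ℕ := (195953450, 0, 5, 0)
def rest_160 : ℕ × ℕ × ℕ × ℕ := (166308450, 0, 4, 0)
def rest_161 : ℕ × ℕ × ℕ × ℕ := (244719475, 0, 4, 0)
def rest_162 : ℕ × ℕ × ℕ × ℕ := (32815300, 1, 4, 0)
def rest_163 : ℕ × ℕ × ℕ × ℕ := (198709700, 2, 4, 0)
def rest_164 : ℕ × ℕ × ℕ × ℕ := (140871325, 1, 5, 0)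
def rest_165 : ℕ × ℕ × ℕ × ℕ := (111226325, 1, 4, 0)
def rest_166 : ℕ × ℕ × ℕ × ℕ := (219282350, 1, 5, 0)
def rest_167 : ℕ × ℕ × ℕ × ℕ := (189637350, 1, 4, 0)
def rest_168 : ℕ × ℕ × ℕ × ℕ := (56144200, 2, 4, 0)
def rest_169 : ℕ × ℕ × ℕ × ℕ := (222038600, 3, 4, 0)
def rest_170 : ℕ × ℕ × ℕ × ℕ := (164200225, 2, 5, 0)
def rest_171 : ℕ × ℕ × ℕ × ℕ := (134555225, 2, 4, 0)
def rest_172 : ℕ × ℕ × ℕ × ℕ := (242611250, 2, 5, 0)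
def rest_173 : ℕ × ℕ × ℕ × ℕ := (212966250, 2, 4, 0)
def rest_174 : ℕ × ℕ × ℕ × ℕ := (79473100, 3, 4, 0)
def rest_175 : ℕ × ℕ × ℕ × ℕ := (187529125, 3, 5, 0)
def rest_176 : ℕ × ℕ × ℕ × ℕ := (157884125, 3, 4, 0)
def rest_177 : ℕ × ℕ × ℕ × ℕ := (236295150, 3, 4, 0)
def rest_178 : ℕ × ℕ × ℕ × ℕ := (102802000, 4, 4, 0)
def rest_179 : ℕ × ℕ × ℕ × ℕ := (210858025, 4, 5, 0)
def rest_180 : ℕ × ℕ × ℕ × ℕ := (181213025, 4, 4, 0)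
def rest_181 : ℕ × ℕ × ℕ × ℕ := (126130900, 5, 4, 0)
def rest_182 : ℕ × ℕ × ℕ × ℕ := (234186925, 5, 5, 0)
def rest_183 : ℕ × ℕ × ℕ × ℕ := (204541925, 5, 4, 0)
def rest_184 : ℕ × ℕ × ℕ × ℕ := (149459800, 6, 4, 0)
def rest_185 : ℕ × ℕ × ℕ × ℕ := (227870825, 6, 4, 0)
def rest_186 : ℕ × ℕ × ℕ × ℕ := (172788700, 7, 4, 0)
def rest_187 : ℕ × ℕ × ℕ × ℕ := (196117600, 8, 4, 0)
def rest_188 : ℕ × ℕ × ℕ × ℕ := (219446500, 9, 4, 0)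
def rest_189 : ℕ × ℕ × ℕ × ℕ := (242775400, 10, 4, 0)
def rest_190 : ℕ × ℕ × ℕ × ℕ := (11858000, 0, 5, 0)
def rest_191 : ℕ × ℕ × ℕ × ℕ := (177752400, 1, 5, 0)
def rest_192 : ℕ × ℕ × ℕ × ℕ := (119914025, 0, 6, 0)
def rest_193 : ℕ × ℕ × ℕ × ℕ := (227970050, 0, 7, 0)
def rest_194 : ℕ × ℕ × ℕ × ℕ := (90269025, 0, 5, 0)
def rest_195 : ℕ × ℕ × ℕ × ℕ := (198325050, 0, 6, 0)
def rest_196 : ℕ × ℕ × ℕ × ℕ := (168680050, 0, 5, 0)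
def rest_197 : ℕ × ℕ × ℕ × ℕ := (35186900, 1, 5, 0)
def rest_198 : ℕ × ℕ × ℕ × ℕ := (201081300, 2, 5, 0)
def rest_199 : ℕ × ℕ × ℕ × ℕ := (143242925, 1, 6, 0)
def rest_200 : ℕ × ℕ × ℕ × ℕ := (113597925, 1, 5, 0)
def rest_201 : ℕ × ℕ × ℕ × ℕ := (221653950, 1, 6, 0)
def rest_202 : ℕ × ℕ × ℕ × ℕ := (192008950, 1, 5, 0)
def rest_203 : ℕ × ℕ × ℕ × ℕ := (58515800, 2, 5, 0)
def rest_204 : ℕ × ℕ × ℕ × ℕ := (224410200, 3, 5, 0)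
def rest_205 : ℕ × ℕ × ℕ × ℕ := (166571825, 2, 6, 0)
def rest_206 : ℕ × ℕ × ℕ × ℕ := (136926825, 2, 5, 0)
def rest_207 : ℕ × ℕ × ℕ × ℕ := (215337850, 2, 5, 0)
def rest_208 : ℕ × ℕ × ℕ × ℕ := (81844700, 3, 5, 0)
def rest_209 : ℕ × ℕ × ℕ × ℕ := (189900725, 3, 6, 0)
def rest_210 : ℕ × ℕ × ℕ × ℕ := (160255725, 3, 5, 0)
def rest_211 : ℕ × ℕ × ℕ × ℕ := (238666750, 3, 5, 0)
def rest_212 : ℕ × ℕ × ℕ × ℕ := (105173600, 4, 5, 0)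
def rest_213 : ℕ × ℕ × ℕ × ℕ := (213229625, 4, 6, 0)
def rest_214 : ℕ × ℕ × ℕ × ℕ := (183584625, 4, 5, 0)
def rest_215 : ℕ × ℕ × ℕ × ℕ := (128502500, 5, 5, 0)
def rest_216 : ℕ × ℕ × ℕ × ℕ := (236558525, 5, 6, 0)
def rest_217 : ℕ × ℕ × ℕ × ℕ := (206913525, 5, 5, 0)
def rest_218 : ℕ × ℕ × ℕ × ℕ := (151831400, 6, 5, 0)
def rest_219 : ℕ × ℕ × ℕ × ℕ := (230242425, 6, 5, 0)
def rest_220 : ℕ × ℕ × ℕ × ℕ := (175160300, 7, 5, 0)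
def rest_221 : ℕ × ℕ × ℕ × ℕ := (198489200, 8, 5, 0)
def rest_222 : ℕ × ℕ × ℕ × ℕ := (221818100, 9, 5, 0)
def rest_223 : ℕ × ℕ × ℕ × ℕ := (14229600, 0, 6, 0)
def rest_224 : ℕ × ℕ × ℕ × ℕ := (180124000, 1, 6, 0)
def rest_225 : ℕ × ℕ × ℕ × ℕ := (122285625, 0, 7, 0)
def rest_226 : ℕ × ℕ × ℕ × ℕ := (230341650, 0, 8, 0)
def rest_227 : ℕ × ℕ × ℕ × ℕ := (92640625, 0, 6, 0)
def rest_228 : ℕ × ℕ × ℕ × ℕ := (200696650, 0, 7, 0)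
def rest_229 : ℕ × ℕ × ℕ × ℕ := (171051650, 0, 6, 0)
def rest_230 : ℕ × ℕ × ℕ × ℕ := (37558500, 1, 6, 0)
def rest_231 : ℕ × ℕ × ℕ × ℕ := (203452900, 2, 6, 0)
def rest_232 : ℕ × ℕ × ℕ × ℕ := (145614525, 1, 7, 0)
def rest_233 : ℕ × ℕ × ℕ × ℕ := (115969525, 1, 6, 0)
def rest_234 : ℕ × ℕ × ℕ × ℕ := (224025550, 1, 7, 0)
def rest_235 : ℕ × ℕ × ℕ × ℕ := (194380550, 1, 6, 0)
def rest_236 : ℕ × ℕ × ℕ × ℕ := (60887400, 2, 6, 0)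
def rest_237 : ℕ × ℕ × ℕ × ℕ := (226781800, 3, 6, 0)
def rest_238 : ℕ × ℕ × ℕ × ℕ := (168943425, 2, 7, 0)
def rest_239 : ℕ × ℕ × ℕ × ℕ := (139298425, 2, 6, 0)
def rest_240 : ℕ × ℕ × ℕ × ℕ := (217709450, 2, 6, 0)
def rest_241 : ℕ × ℕ × ℕ × ℕ := (84216300, 3, 6, 0)
def rest_242 : ℕ × ℕ × ℕ × ℕ := (192272325, 3, 7, 0)
def rest_243 : ℕ × ℕ × ℕ × ℕ := (162627325, 3, 6, 0)
def rest_244 : ℕ × ℕ × ℕ × ℕ := (241038350, 3, 6, 0)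
def rest_245 : ℕ × ℕ × ℕ × ℕ := (107545200, 4, 6, 0)
def rest_246 : ℕ × ℕ × ℕ × ℕ := (215601225, 4, 7, 0)
def rest_247 : ℕ × ℕ × ℕ × ℕ := (185956225, 4, 6, 0)
def rest_248 : ℕ × ℕ × ℕ × ℕ := (130874100, 5, 6, 0)
def rest_249 : ℕ × ℕ × ℕ × ℕ := (238930125, 5, 7, 0)
def rest_250 : ℕ × ℕ × ℕ × ℕ := (209285125, 5, 6, 0)
def rest_251 : ℕ × ℕ × ℕ × ℕ := (154203000, 6, 6, 0)
def rest_252 : ℕ × ℕ × ℕ × ℕ := (232614025, 6, 6, 0)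
def rest_253 : ℕ × ℕ × ℕ × ℕ := (177531900, 7, 6, 0)
def rest_254 : ℕ × ℕ × ℕ × ℕ := (200860800, 8, 6, 0)
def rest_255 : ℕ × ℕ × ℕ × ℕ := (224189700, 9, 6, 0)
def rest_256 : ℕ × ℕ × ℕ × ℕ := (16601200, 0, 7, 0)
def rest_257 : ℕ × ℕ × ℕ × ℕ := (182495600, 1, 7, 0)
def rest_258 : ℕ × ℕ × ℕ × ℕ := (124657225, 0, 8, 0)
def rest_259 : ℕ × ℕ × ℕ × ℕ := (232713250, 0, 9, 0)
def rest_260 : ℕ × ℕ × ℕ × ℕ := (95012225, 0, 7, 0)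
def rest_261 : ℕ × ℕ × ℕ × ℕ := (203068250, 0, 8, 0)
def rest_262 : ℕ × ℕ × ℕ × ℕ := (173423250, 0, 7, 0)
def rest_263 : ℕ × ℕ × ℕ × ℕ := (39930100, 1, 7, 0)
def rest_264 : ℕ × ℕ × ℕ × ℕ := (205824500, 2, 7, 0)
def rest_265 : ℕ × ℕ × ℕ × ℕ := (147986125, 1, 8, 0)
def rest_266 : ℕ × ℕ × ℕ × ℕ := (118341125, 1, 7, 0)
def rest_267 : ℕ × ℕ × ℕ × ℕ := (226397150, 1, 8, 0)
def rest_268 : ℕ × ℕ × ℕ × ℕ := (196752150, 1, 7, 0)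
def rest_269 : ℕ × ℕ × ℕ × ℕ := (63259000, 2, 7, 0)
def rest_270 : ℕ × ℕ × ℕ × ℕ := (229153400, 3, 7, 0)
def rest_271 : ℕ × ℕ × ℕ × ℕ := (171315025, 2, 8, 0)
def rest_272 : ℕ × ℕ × ℕ × ℕ := (141670025, 2, 7, 0)
def rest_273 : ℕ × ℕ × ℕ × ℕ := (220081050, 2, 7, 0)
def rest_274 : ℕ × ℕ × ℕ × ℕ := (86587900, 3, 7, 0)
def rest_275 : ℕ × ℕ × ℕ × ℕ := (194643925, 3, 8, 0)
def rest_276 : ℕ × ℕ × ℕ × ℕ := (164998925, 3, 7, 0)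
def rest_277 : ℕ × ℕ × ℕ × ℕ := (243409950, 3, 7, 0)
def rest_278 : ℕ × ℕ × ℕ × ℕ := (109916800, 4, 7, 0)
def rest_279 : ℕ × ℕ × ℕ × ℕ := (217972825, 4, 8, 0)
def rest_280 : ℕ × ℕ × ℕ × ℕ := (188327825, 4, 7, 0)
def rest_281 : ℕ × ℕ × ℕ × ℕ := (133245700, 5, 7, 0)
def rest_282 : ℕ × ℕ × ℕ × ℕ := (241301725, 5, 8, 0)
def rest_283 : ℕ × ℕ × ℕ × ℕ := (211656725, 5, 7, 0)
def rest_284 : ℕ × ℕ × ℕ × ℕ := (156574600, 6, 7, 0)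
def rest_285 : ℕ × ℕ × ℕ × ℕ := (234985625, 6, 7, 0)
def rest_286 : ℕ × ℕ × ℕ × ℕ := (179903500, 7, 7, 0)
def rest_287 : ℕ × ℕ × ℕ × ℕ := (203232400, 8, 7, 0)
def rest_288 : ℕ × ℕ × ℕ × ℕ := (226561300, 9, 7, 0)
def rest_289 : ℕ × ℕ × ℕ × ℕ := (18972800, 0, 8, 0)
def rest_290 : ℕ × ℕ × ℕ × ℕ := (184867200, 1, 8, 0)
def rest_291 : ℕ × ℕ × ℕ × ℕ := (127028825, 0, 9, 0)
def rest_292 : ℕ × ℕ × ℕ × ℕ := (235084850, 0, 10, 0)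
def rest_293 : ℕ × ℕ × ℕ × ℕ := (97383825, 0, 8, 0)
def rest_294 : ℕ × ℕ × ℕ × ℕ := (205439850, 0, 9, 0)
def rest_295 : ℕ × ℕ × ℕ × ℕ := (175794850, 0, 8, 0)
def rest_296 : ℕ × ℕ × ℕ × ℕ := (42301700, 1, 8, 0)
def rest_297 : ℕ × ℕ × ℕ × ℕ := (208196100, 2, 8, 0)
def rest_298 : ℕ × ℕ × ℕ × ℕ := (150357725, 1, 9, 0)
def rest_299 : ℕ × ℕ × ℕ × ℕ := (120712725, 1, 8, 0)
def rest_300 : ℕ × ℕ × ℕ × ℕ := (228768750, 1, 9, 0)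
def rest_301 : ℕ × ℕ × ℕ × ℕ := (199123750, 1, 8, 0)
def rest_302 : ℕ × ℕ × ℕ × ℕ := (65630600, 2, 8, 0)
def rest_303 : ℕ × ℕ × ℕ × ℕ := (231525000, 3, 8, 0)
def rest_304 : ℕ × ℕ × ℕ × ℕ := (173686625, 2, 9, 0)
def rest_305 : ℕ × ℕ × ℕ × ℕ := (144041625, 2, 8, 0)
def rest_306 : ℕ × ℕ × ℕ × ℕ := (222452650, 2, 8, 0)
def rest_307 : ℕ × ℕ × ℕ × ℕ := (88959500, 3, 8, 0)
def rest_308 : ℕ × ℕ × ℕ × ℕ := (197015525, 3, 9, 0)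
def rest_309 : ℕ × ℕ × ℕ × ℕ := (167370525, 3, 8, 0)
def rest_310 : ℕ × ℕ × ℕ × ℕ := (112288400, 4, 8, 0)
def rest_311 : ℕ × ℕ × ℕ × ℕ := (220344425, 4, 9, 0)
def rest_312 : ℕ × ℕ × ℕ × ℕ := (190699425, 4, 8, 0)
def rest_313 : ℕ × ℕ × ℕ × ℕ := (135617300, 5, 8, 0)
def rest_314 : ℕ × ℕ × ℕ × ℕ := (243673325, 5, 9, 0)
def rest_315 : ℕ × ℕ × ℕ × ℕ := (214028325, 5, 8, 0)
def rest_316 : ℕ × ℕ × ℕ × ℕ := (158946200, 6, 8, 0)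
def rest_317 : ℕ × ℕ × ℕ × ℕ := (237357225, 6, 8, 0)
def rest_318 : ℕ × ℕ × ℕ × ℕ := (182275100, 7, 8, 0)
def rest_319 : ℕ × ℕ × ℕ × ℕ := (205604000, 8, 8, 0)
def rest_320 : ℕ × ℕ × ℕ × ℕ := (228932900, 9, 8, 0)
def rest_321 : ℕ × ℕ × ℕ × ℕ := (21344400, 0, 9, 0)
def rest_322 : ℕ × ℕ × ℕ × ℕ := (187238800, 1, 9, 0)
def rest_323 : ℕ × ℕ × ℕ × ℕ := (129400425, 0, 10, 0)
def rest_324 : ℕ × ℕ × ℕ × ℕ := (237456450, 0, 11, 0)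
def rest_325 : ℕ × ℕ × ℕ × ℕ := (99755425, 0, 9, 0)
def rest_326 : ℕ × ℕ × ℕ × ℕ := (207811450, 0, 10, 0)
def rest_327 : ℕ × ℕ × ℕ × ℕ := (178166450, 0, 9, 0)
def rest_328 : ℕ × ℕ × ℕ × ℕ := (44673300, 1, 9, 0)
def rest_329 : ℕ × ℕ × ℕ × ℕ := (210567700, 2, 9, 0)
def rest_330 : ℕ × ℕ × ℕ × ℕ := (152729325, 1, 10, 0)
def rest_331 : ℕ × ℕ × ℕ × ℕ := (123084325, 1, 9, 0)
def rest_332 : ℕ × ℕ × ℕ × ℕ := (231140350, 1, 10, 0)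
def rest_333 : ℕ × ℕ × ℕ × ℕ := (201495350, 1, 9, 0)
def rest_334 : ℕ × ℕ × ℕ × ℕ := (68002200, 2, 9, 0)
def rest_335 : ℕ × ℕ × ℕ × ℕ := (233896600, 3, 9, 0)
def rest_336 : ℕ × ℕ × ℕ × ℕ := (176058225, 2, 10, 0)
def rest_337 : ℕ × ℕ × ℕ × ℕ := (146413225, 2, 9, 0)
def rest_338 : ℕ × ℕ × ℕ × ℕ := (224824250, 2, 9, 0)
def rest_339 : ℕ × ℕ × ℕ × ℕ := (91331100, 3, 9, 0)
def rest_340 : ℕ × ℕ × ℕ × ℕ := (199387125, 3, 10, 0)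
def rest_341 : ℕ × ℕ × ℕ × ℕ := (169742125, 3, 9, 0)
def rest_342 : ℕ × ℕ × ℕ × ℕ := (114660000, 4, 9, 0)
def rest_343 : ℕ × ℕ × ℕ × ℕ := (222716025, 4, 10, 0)
def rest_344 : ℕ × ℕ × ℕ × ℕ := (193071025, 4, 9, 0)
def rest_345 : ℕ × ℕ × ℕ × ℕ := (137988900, 5, 9, 0)
def rest_346 : ℕ × ℕ × ℕ × ℕ := (216399925, 5, 9, 0)
def rest_347 : ℕ × ℕ × ℕ × ℕ := (161317800, 6, 9, 0)
def rest_348 : ℕ × ℕ × ℕ × ℕ := (239728825, 6, 9, 0)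
def rest_349 : ℕ × ℕ × ℕ × ℕ := (184646700, 7, 9, 0)
def rest_350 : ℕ × ℕ × ℕ × ℕ := (207975600, 8, 9, 0)
def rest_351 : ℕ × ℕ × ℕ × ℕ := (231304500, 9, 9, 0)
def rest_352 : ℕ × ℕ × ℕ × ℕ := (23716000, 0, 10, 0)
def rest_353 : ℕ × ℕ × ℕ × ℕ := (189610400, 1, 10, 0)
def rest_354 : ℕ × ℕ × ℕ × ℕ := (131772025, 0, 11, 0)
def rest_355 : ℕ × ℕ × ℕ × ℕ := (102127025, 0, 10, 0)
def rest_356 : ℕ × ℕ × ℕ × ℕ := (210183050, 0, 11, 0)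
def rest_357 : ℕ × ℕ × ℕ × ℕ := (180538050, 0, 10, 0)
def rest_358 : ℕ × ℕ × ℕ × ℕ := (47044900, 1, 10, 0)
def rest_359 : ℕ × ℕ × ℕ × ℕ := (212939300, 2, 10, 0)
def rest_360 : ℕ × ℕ × ℕ × ℕ := (155100925, 1, 11, 0)
def rest_361 : ℕ × ℕ × ℕ × ℕ := (125455925, 1, 10, 0)
def rest_362 : ℕ × ℕ × ℕ × ℕ := (233511950, 1, 11, 0)
def rest_363 : ℕ × ℕ × ℕ × ℕ := (203866950, 1, 10, 0)
def rest_364 : ℕ × ℕ × ℕ × ℕ := (70373800, 2, 10, 0)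
def rest_365 : ℕ × ℕ × ℕ × ℕ := (236268200, 3, 10, 0)
def rest_366 : ℕ × ℕ × ℕ × ℕ := (178429825, 2, 11, 0)
def rest_367 : ℕ × ℕ × ℕ × ℕ := (148784825, 2, 10, 0)
def rest_368 : ℕ × ℕ × ℕ × ℕ := (227195850, 2, 10, 0)
def rest_369 : ℕ × ℕ × ℕ × ℕ := (93702700, 3, 10, 0)
def rest_370 : ℕ × ℕ × ℕ × ℕ := (201758725, 3, 11, 0)
def rest_371 : ℕ × ℕ × ℕ × ℕ := (172113725, 3, 10, 0)
def rest_372 : ℕ × ℕ × ℕ × ℕ := (117031600, 4, 10, 0)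
def rest_373 : ℕ × ℕ × ℕ × ℕ := (225087625, 4, 11, 0)
def rest_374 : ℕ × ℕ × ℕ × ℕ := (195442625, 4, 10, 0)
def rest_375 : ℕ × ℕ × ℕ × ℕ := (140360500, 5, 10, 0)
def rest_376 : ℕ × ℕ × ℕ × ℕ := (218771525, 5, 10, 0)
def rest_377 : ℕ × ℕ × ℕ × ℕ := (163689400, 6, 10, 0)
def rest_378 : ℕ × ℕ × ℕ × ℕ := (242100425, 6, 10, 0)
def rest_379 : ℕ × ℕ × ℕ × ℕ := (187018300, 7, 10, 0)
def rest_380 : ℕ × ℕ × ℕ × ℕ := (210347200, 8, 10, 0)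
def rest_381 : ℕ × ℕ × ℕ × ℕ := (233676100, 9, 10, 0)
def rest_382 : ℕ × ℕ × ℕ × ℕ := (26087600, 0, 11, 0)
def rest_383 : ℕ × ℕ × ℕ × ℕ := (191982000, 1, 11, 0)
def rest_384 : ℕ × ℕ × ℕ × ℕ := (104498625, 0, 11, 0)
def rest_385 : ℕ × ℕ × ℕ × ℕ := (182909650, 0, 11, 0)
def rest_386 : ℕ × ℕ × ℕ × ℕ := (49416500, 1, 11, 0)
def rest_387 : ℕ × ℕ × ℕ × ℕ := (215310900, 2, 11, 0)
def rest_388 : ℕ × ℕ × ℕ × ℕ := (127827525, 1, 11, 0)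
def rest_389 : ℕ × ℕ × ℕ × ℕ := (206238550, 1, 11, 0)
def rest_390 : ℕ × ℕ × ℕ × ℕ := (72745400, 2, 11, 0)
def rest_391 : ℕ × ℕ × ℕ × ℕ := (238639800, 3, 11, 0)
def rest_392 : ℕ × ℕ × ℕ × ℕ := (151156425, 2, 11, 0)
def rest_393 : ℕ × ℕ × ℕ × ℕ := (229567450, 2, 11, 0)
def rest_394 : ℕ × ℕ × ℕ × ℕ := (96074300, 3, 11, 0)
def rest_395 : ℕ × ℕ × ℕ × ℕ := (174485325, 3, 11, 0)
def rest_396 : ℕ × ℕ × ℕ × ℕ := (119403200, 4, 11, 0)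
def rest_397 : ℕ × ℕ × ℕ × ℕ := (197814225, 4, 11, 0)
def rest_398 : ℕ × ℕ × ℕ × ℕ := (142732100, 5, 11, 0)
def rest_399 : ℕ × ℕ × ℕ × ℕ := (221143125, 5, 11, 0)
def rest_400 : ℕ × ℕ × ℕ × ℕ := (166061000, 6, 11, 0)
def rest_401 : ℕ × ℕ × ℕ × ℕ := (244472025, 6, 11, 0)
def rest_402 : ℕ × ℕ × ℕ × ℕ := (189389900, 7, 11, 0)
def rest_403 : ℕ × ℕ × ℕ × ℕ := (212718800, 8, 11, 0)
def rest_404 : ℕ × ℕ × ℕ × ℕ := (236047700, 9, 11, 0)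
def rest_405 : ℕ × ℕ × ℕ × ℕ := (1185800, 0, 0, 2)
def rest_406 : ℕ × ℕ × ℕ × ℕ := (167080200, 1, 0, 2)
def rest_407 : ℕ × ℕ × ℕ × ℕ := (109241825, 0, 1, 2)
def rest_408 : ℕ × ℕ × ℕ × ℕ := (217297850, 0, 2, 2)
def rest_409 : ℕ × ℕ × ℕ × ℕ := (79596825, 0, 0, 2)
def rest_410 : ℕ × ℕ × ℕ × ℕ := (187652850, 0, 1, 2)
def rest_411 : ℕ × ℕ × ℕ × ℕ := (158007850, 0, 0, 2)
def rest_412 : ℕ × ℕ × ℕ × ℕ := (236418875, 0, 0, 2)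
def rest_413 : ℕ × ℕ × ℕ × ℕ := (24514700, 1, 0, 2)
def rest_414 : ℕ × ℕ × ℕ × ℕ := (190409100, 2, 0, 2)
def rest_415 : ℕ × ℕ × ℕ × ℕ := (132570725, 1, 1, 2)
def rest_416 : ℕ × ℕ × ℕ × ℕ := (240626750, 1, 2, 2)
def rest_417 : ℕ × ℕ × ℕ × ℕ := (102925725, 1, 0, 2)
def rest_418 : ℕ × ℕ × ℕ × ℕ := (210981750, 1, 1, 2)
def rest_419 : ℕ × ℕ × ℕ × ℕ := (181336750, 1, 0, 2)
def rest_420 : ℕ × ℕ × ℕ × ℕ := (47843600, 2, 0, 2)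
def rest_421 : ℕ × ℕ × ℕ × ℕ := (213738000, 3, 0, 2)
def rest_422 : ℕ × ℕ × ℕ × ℕ := (155899625, 2, 1, 2)
def rest_423 : ℕ × ℕ × ℕ × ℕ := (126254625, 2, 0, 2)
def rest_424 : ℕ × ℕ × ℕ × ℕ := (234310650, 2, 1, 2)
def rest_425 : ℕ × ℕ × ℕ × ℕ := (204665650, 2, 0, 2)
def rest_426 : ℕ × ℕ × ℕ × ℕ := (71172500, 3, 0, 2)
def rest_427 : ℕ × ℕ × ℕ × ℕ := (237066900, 4, 0, 2)
def rest_428 : ℕ × ℕ × ℕ × ℕ := (179228525, 3, 1, 2)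
def rest_429 : ℕ × ℕ × ℕ × ℕ := (149583525, 3, 0, 2)
def rest_430 : ℕ × ℕ × ℕ × ℕ := (227994550, 3, 0, 2)
def rest_431 : ℕ × ℕ × ℕ × ℕ := (94501400, 4, 0, 2)
def rest_432 : ℕ × ℕ × ℕ × ℕ := (202557425, 4, 1, 2)
def rest_433 : ℕ × ℕ × ℕ × ℕ := (172912425, 4, 0, 2)
def rest_434 : ℕ × ℕ × ℕ × ℕ := (117830300, 5, 0, 2)
def rest_435 : ℕ × ℕ × ℕ × ℕ := (225886325, 5, 1, 2)
def rest_436 : ℕ × ℕ × ℕ × ℕ := (196241325, 5, 0, 2)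
def rest_437 : ℕ × ℕ × ℕ × ℕ := (141159200, 6, 0, 2)
def rest_438 : ℕ × ℕ × ℕ × ℕ := (219570225, 6, 0, 2)
def rest_439 : ℕ × ℕ × ℕ × ℕ := (164488100, 7, 0, 2)
def rest_440 : ℕ × ℕ × ℕ × ℕ := (242899125, 7, 0, 2)
def rest_441 : ℕ × ℕ × ℕ × ℕ := (187817000, 8, 0, 2)
def rest_442 : ℕ × ℕ × ℕ × ℕ := (211145900, 9, 0, 2)
def rest_443 : ℕ × ℕ × ℕ × ℕ := (234474800, 10, 0, 2)
def rest_444 : ℕ × ℕ × ℕ × ℕ := (3557400, 0, 1, 2)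
def rest_445 : ℕ × ℕ × ℕ × ℕ := (169451800, 1, 1, 2)
def rest_446 : ℕ × ℕ × ℕ × ℕ := (111613425, 0, 2, 2)
def rest_447 : ℕ × ℕ × ℕ × ℕ := (219669450, 0, 3, 2)
def rest_448 : ℕ × ℕ × ℕ × ℕ := (81968425, 0, 1, 2)
def rest_449 : ℕ × ℕ × ℕ × ℕ := (190024450, 0, 2, 2)
def rest_450 : ℕ × ℕ × ℕ × ℕ := (160379450, 0, 1, 2)
def rest_451 : ℕ × ℕ × ℕ × ℕ := (238790475, 0, 1, 2)
def rest_452 : ℕ × ℕ × ℕ × ℕ := (26886300, 1, 1, 2)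
def rest_453 : ℕ × ℕ × ℕ × ℕ := (192780700, 2, 1, 2)
def rest_454 : ℕ × ℕ × ℕ × ℕ := (134942325, 1, 2, 2)
def rest_455 : ℕ × ℕ × ℕ × ℕ := (242998350, 1, 3, 2)
def rest_456 : ℕ × ℕ × ℕ × ℕ := (105297325, 1, 1, 2)
def rest_457 : ℕ × ℕ × ℕ × ℕ := (213353350, 1, 2, 2)
def rest_458 : ℕ × ℕ × ℕ × ℕ := (183708350, 1, 1, 2)
def rest_459 : ℕ × ℕ × ℕ × ℕ := (50215200, 2, 1, 2)
def rest_460 : ℕ × ℕ × ℕ × ℕ := (216109600, 3, 1, 2)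
def rest_461 : ℕ × ℕ × ℕ × ℕ := (158271225, 2, 2, 2)
def rest_462 : ℕ × ℕ × ℕ × ℕ := (128626225, 2, 1, 2)
def rest_463 : ℕ × ℕ × ℕ × ℕ := (236682250, 2, 2, 2)
def rest_464 : ℕ × ℕ × ℕ × ℕ := (207037250, 2, 1, 2)
def rest_465 : ℕ × ℕ × ℕ × ℕ := (73544100, 3, 1, 2)
def rest_466 : ℕ × ℕ × ℕ × ℕ := (239438500, 4, 1, 2)
def rest_467 : ℕ × ℕ × ℕ × ℕ := (181600125, 3, 2, 2)
def rest_468 : ℕ × ℕ × ℕ × ℕ := (151955125, 3, 1, 2)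
def rest_469 : ℕ × ℕ × ℕ × ℕ := (230366150, 3, 1, 2)
def rest_470 : ℕ × ℕ × ℕ × ℕ := (96873000, 4, 1, 2)
def rest_471 : ℕ × ℕ × ℕ × ℕ := (204929025, 4, 2, 2)
def rest_472 : ℕ × ℕ × ℕ × ℕ := (175284025, 4, 1, 2)
def rest_473 : ℕ × ℕ × ℕ × ℕ := (120201900, 5, 1, 2)
def rest_474 : ℕ × ℕ × ℕ × ℕ := (228257925, 5, 2, 2)
def rest_475 : ℕ × ℕ × ℕ × ℕ := (198612925, 5, 1, 2)
def rest_476 : ℕ × ℕ × ℕ × ℕ := (143530800, 6, 1, 2)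
def rest_477 : ℕ × ℕ × ℕ × ℕ := (221941825, 6, 1, 2)
def rest_478 : ℕ × ℕ × ℕ × ℕ := (166859700, 7, 1, 2)
def rest_479 : ℕ × ℕ × ℕ × ℕ := (190188600, 8, 1, 2)
def rest_480 : ℕ × ℕ × ℕ × ℕ := (213517500, 9, 1, 2)
def rest_481 : ℕ × ℕ × ℕ × ℕ := (236846400, 10, 1, 2)
def rest_482 : ℕ × ℕ × ℕ × ℕ := (5929000, 0, 2, 2)
def rest_483 : ℕ × ℕ × ℕ × ℕ := (171823400, 1, 2, 2)
def rest_484 : ℕ × ℕ × ℕ × ℕ := (113985025, 0, 3, 2)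
def rest_485 : ℕ × ℕ × ℕ × ℕ := (222041050, 0, 4, 2)
def rest_486 : ℕ × ℕ × ℕ × ℕ := (84340025, 0, 2, 2)
def rest_487 : ℕ × ℕ × ℕ × ℕ := (192396050, 0, 3, 2)
def rest_488 : ℕ × ℕ × ℕ × ℕ := (162751050, 0, 2, 2)
def rest_489 : ℕ × ℕ × ℕ × ℕ := (241162075, 0, 2, 2)
def rest_490 : ℕ × ℕ × ℕ × ℕ := (29257900, 1, 2, 2)
def rest_491 : ℕ × ℕ × ℕ × ℕ := (195152300, 2, 2, 2)
def rest_492 : ℕ × ℕ × ℕ × ℕ := (137313925, 1, 3, 2)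
def rest_493 : ℕ × ℕ × ℕ × ℕ := (107668925, 1, 2, 2)
def rest_494 : ℕ × ℕ × ℕ × ℕ := (215724950, 1, 3, 2)
def rest_495 : ℕ × ℕ × ℕ × ℕ := (186079950, 1, 2, 2)
def rest_496 : ℕ × ℕ × ℕ × ℕ := (52586800, 2, 2, 2)
def rest_497 : ℕ × ℕ × ℕ × ℕ := (218481200, 3, 2, 2)
def rest_498 : ℕ × ℕ × ℕ × ℕ := (160642825, 2, 3, 2)
def rest_499 : ℕ × ℕ × ℕ × ℕ := (130997825, 2, 2, 2)
def rest_500 : ℕ × ℕ × ℕ × ℕ := (239053850, 2, 3, 2)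
def rest_501 : ℕ × ℕ × ℕ × ℕ := (209408850, 2, 2, 2)
def rest_502 : ℕ × ℕ × ℕ × ℕ := (75915700, 3, 2, 2)
def rest_503 : ℕ × ℕ × ℕ × ℕ := (241810100, 4, 2, 2)
def rest_504 : ℕ × ℕ × ℕ × ℕ := (183971725, 3, 3, 2)
def rest_505 : ℕ × ℕ × ℕ × ℕ := (154326725, 3, 2, 2)
def rest_506 : ℕ × ℕ × ℕ × ℕ := (232737750, 3, 2, 2)
def rest_507 : ℕ × ℕ × ℕ × ℕ := (99244600, 4, 2, 2)
def rest_508 : ℕ × ℕ × ℕ × ℕ := (207300625, 4, 3, 2)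
def rest_509 : ℕ × ℕ × ℕ × ℕ := (177655625, 4, 2, 2)
def rest_510 : ℕ × ℕ × ℕ × ℕ := (122573500, 5, 2, 2)
def rest_511 : ℕ × ℕ × ℕ × ℕ := (230629525, 5, 3, 2)
def rest_512 : ℕ × ℕ × ℕ × ℕ := (200984525, 5, 2, 2)
def rest_513 : ℕ × ℕ × ℕ × ℕ := (145902400, 6, 2, 2)
def rest_514 : ℕ × ℕ × ℕ × ℕ := (224313425, 6, 2, 2)
def rest_515 : ℕ × ℕ × ℕ × ℕ := (169231300, 7, 2, 2)
def rest_516 : ℕ × ℕ × ℕ × ℕ := (192560200, 8, 2, 2)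
def rest_517 : ℕ × ℕ × ℕ × ℕ := (215889100, 9, 2, 2)
def rest_518 : ℕ × ℕ × ℕ × ℕ := (239218000, 10, 2, 2)
def rest_519 : ℕ × ℕ × ℕ × ℕ := (8300600, 0, 3, 2)
def rest_520 : ℕ × ℕ × ℕ × ℕ := (174195000, 1, 3, 2)
def rest_521 : ℕ × ℕ × ℕ × ℕ := (116356625, 0, 4, 2)
def rest_522 : ℕ × ℕ × ℕ × ℕ := (224412650, 0, 5, 2)
def rest_523 : ℕ × ℕ × ℕ × ℕ := (86711625, 0, 3, 2)
def rest_524 : ℕ × ℕ × ℕ × ℕ := (194767650, 0, 4, 2)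
def rest_525 : ℕ × ℕ × ℕ × ℕ := (165122650, 0, 3, 2)
def rest_526 : ℕ × ℕ × ℕ × ℕ := (243533675, 0, 3, 2)
def rest_527 : ℕ × ℕ × ℕ × ℕ := (31629500, 1, 3, 2)
def rest_528 : ℕ × ℕ × ℕ × ℕ := (197523900, 2, 3, 2)
def rest_529 : ℕ × ℕ × ℕ × ℕ := (139685525, 1, 4, 2)
def rest_530 : ℕ × ℕ × ℕ × ℕ := (110040525, 1, 3, 2)
def rest_531 : ℕ × ℕ × ℕ × ℕ := (218096550, 1, 4, 2)
def rest_532 : ℕ × ℕ × ℕ × ℕ := (188451550, 1, 3, 2)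
def rest_533 : ℕ × ℕ × ℕ × ℕ := (54958400, 2, 3, 2)
def rest_534 : ℕ × ℕ × ℕ × ℕ := (220852800, 3, 3, 2)
def rest_535 : ℕ × ℕ × ℕ × ℕ := (163014425, 2, 4, 2)
def rest_536 : ℕ × ℕ × ℕ × ℕ := (133369425, 2, 3, 2)
def rest_537 : ℕ × ℕ × ℕ × ℕ := (241425450, 2, 4, 2)
def rest_538 : ℕ × ℕ × ℕ × ℕ := (211780450, 2, 3, 2)
def rest_539 : ℕ × ℕ × ℕ × ℕ := (78287300, 3, 3, 2)
def rest_540 : ℕ × ℕ × ℕ × ℕ := (244181700, 4, 3, 2)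
def rest_541 : ℕ × ℕ × ℕ × ℕ := (186343325, 3, 4, 2)
def rest_542 : ℕ × ℕ × ℕ × ℕ := (156698325, 3, 3, 2)
def rest_543 : ℕ × ℕ × ℕ × ℕ := (235109350, 3, 3, 2)
def rest_544 : ℕ × ℕ × ℕ × ℕ := (101616200, 4, 3, 2)
def rest_545 : ℕ × ℕ × ℕ × ℕ := (209672225, 4, 4, 2)
def rest_546 : ℕ × ℕ × ℕ × ℕ := (180027225, 4, 3, 2)
def rest_547 : ℕ × ℕ × ℕ × ℕ := (124945100, 5, 3, 2)
def rest_548 : ℕ × ℕ × ℕ × ℕ := (233001125, 5, 4, 2)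
def rest_549 : ℕ × ℕ × ℕ × ℕ := (203356125, 5, 3, 2)
def rest_550 : ℕ × ℕ × ℕ × ℕ := (148274000, 6, 3, 2)
def rest_551 : ℕ × ℕ × ℕ × ℕ := (226685025, 6, 3, 2)
def rest_552 : ℕ × ℕ × ℕ × ℕ := (171602900, 7, 3, 2)
def rest_553 : ℕ × ℕ × ℕ × ℕ := (194931800, 8, 3, 2)
def rest_554 : ℕ × ℕ × ℕ × ℕ := (218260700, 9, 3, 2)
def rest_555 : ℕ × ℕ × ℕ × ℕ := (241589600, 10, 3, 2)
def rest_556 : ℕ × ℕ × ℕ × ℕ := (10672200, 0, 4, 2)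
def rest_557 : ℕ × ℕ × ℕ × ℕ := (176566600, 1, 4, 2)
def rest_558 : ℕ × ℕ × ℕ × ℕ := (118728225, 0, 5, 2)
def rest_559 : ℕ × ℕ × ℕ × ℕ := (226784250, 0, 6, 2)
def rest_560 : ℕ × ℕ × ℕ × ℕ := (89083225, 0, 4, 2)
def rest_561 : ℕ × ℕ × ℕ × ℕ := (197139250, 0, 5, 2)
def rest_562 : ℕ × ℕ × ℕ × ℕ := (167494250, 0, 4, 2)
def rest_563 : ℕ × ℕ × ℕ × ℕ := (34001100, 1, 4, 2)
def rest_564 : ℕ × ℕ × ℕ × ℕ := (199895500, 2, 4, 2)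
def rest_565 : ℕ × ℕ × ℕ × ℕ := (142057125, 1, 5, 2)
def rest_566 : ℕ × ℕ × ℕ × ℕ := (112412125, 1, 4, 2)
def rest_567 : ℕ × ℕ × ℕ × ℕ := (220468150, 1, 5, 2)
def rest_568 : ℕ × ℕ × ℕ × ℕ := (190823150, 1, 4, 2)
def rest_569 : ℕ × ℕ × ℕ × ℕ := (57330000, 2, 4, 2)
def rest_570 : ℕ × ℕ × ℕ × ℕ := (223224400, 3, 4, 2)
def rest_571 : ℕ × ℕ × ℕ × ℕ := (165386025, 2, 5, 2)
def rest_572 : ℕ × ℕ × ℕ × ℕ := (135741025, 2, 4, 2)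
def rest_573 : ℕ × ℕ × ℕ × ℕ := (243797050, 2, 5, 2)
def rest_574 : ℕ × ℕ × ℕ × ℕ := (214152050, 2, 4, 2)
def rest_575 : ℕ × ℕ × ℕ × ℕ := (80658900, 3, 4, 2)
def rest_576 : ℕ × ℕ × ℕ × ℕ := (188714925, 3, 5, 2)
def rest_577 : ℕ × ℕ × ℕ × ℕ := (159069925, 3, 4, 2)
def rest_578 : ℕ × ℕ × ℕ × ℕ := (237480950, 3, 4, 2)
def rest_579 : ℕ × ℕ × ℕ × ℕ := (103987800, 4, 4, 2)
def rest_580 : ℕ × ℕ × ℕ × ℕ := (212043825, 4, 5, 2)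
def rest_581 : ℕ × ℕ × ℕ × ℕ := (182398825, 4, 4, 2)
def rest_582 : ℕ × ℕ × ℕ × ℕ := (127316700, 5, 4, 2)
def rest_583 : ℕ × ℕ × ℕ × ℕ := (235372725, 5, 5, 2)
def rest_584 : ℕ × ℕ × ℕ × ℕ := (205727725, 5, 4, 2)
def rest_585 : ℕ × ℕ × ℕ × ℕ := (150645600, 6, 4, 2)
def rest_586 : ℕ × ℕ × ℕ × ℕ := (229056625, 6, 4, 2)
def rest_587 : ℕ × ℕ × ℕ × ℕ := (173974500, 7, 4, 2)
def rest_588 : ℕ × ℕ × ℕ × ℕ := (197303400, 8, 4, 2)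
def rest_589 : ℕ × ℕ × ℕ × ℕ := (220632300, 9, 4, 2)
def rest_590 : ℕ × ℕ × ℕ × ℕ := (243961200, 10, 4, 2)
def rest_591 : ℕ × ℕ × ℕ × ℕ := (13043800, 0, 5, 2)
def rest_592 : ℕ × ℕ × ℕ × ℕ := (178938200, 1, 5, 2)
def rest_593 : ℕ × ℕ × ℕ × ℕ := (121099825, 0, 6, 2)
def rest_594 : ℕ × ℕ × ℕ × ℕ := (229155850, 0, 7, 2)
def rest_595 : ℕ × ℕ × ℕ × ℕ := (91454825, 0, 5, 2)
def rest_596 : ℕ × ℕ × ℕ × ℕ := (199510850, 0, 6, 2)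
def rest_597 : ℕ × ℕ × ℕ × ℕ := (169865850, 0, 5, 2)
def rest_598 : ℕ × ℕ × ℕ × ℕ := (36372700, 1, 5, 2)
def rest_599 : ℕ × ℕ × ℕ × ℕ := (202267100, 2, 5, 2)
def rest_600 : ℕ × ℕ × ℕ × ℕ := (144428725, 1, 6, 2)
def rest_601 : ℕ × ℕ × ℕ × ℕ := (114783725, 1, 5, 2)
def rest_602 : ℕ × ℕ × ℕ × ℕ := (222839750, 1, 6, 2)
def rest_603 : ℕ × ℕ × ℕ × ℕ := (193194750, 1, 5, 2)
def rest_604 : ℕ × ℕ × ℕ × ℕ := (59701600, 2, 5, 2)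
def rest_605 : ℕ × ℕ × ℕ × ℕ := (225596000, 3, 5, 2)
def rest_606 : ℕ × ℕ × ℕ × ℕ := (167757625, 2, 6, 2)
def rest_607 : ℕ × ℕ × ℕ × ℕ := (138112625, 2, 5, 2)
def rest_608 : ℕ × ℕ × ℕ × ℕ := (216523650, 2, 5, 2)
def rest_609 : ℕ × ℕ × ℕ × ℕ := (83030500, 3, 5, 2)
def rest_610 : ℕ × ℕ × ℕ × ℕ := (191086525, 3, 6, 2)
def rest_611 : ℕ × ℕ × ℕ × ℕ := (161441525, 3, 5, 2)
def rest_612 : ℕ × ℕ × ℕ × ℕ := (239852550, 3, 5, 2)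
def rest_613 : ℕ × ℕ × ℕ × ℕ := (106359400, 4, 5, 2)
def rest_614 : ℕ × ℕ × ℕ × ℕ := (214415425, 4, 6, 2)
def rest_615 : ℕ × ℕ × ℕ × ℕ := (184770425, 4, 5, 2)
def rest_616 : ℕ × ℕ × ℕ × ℕ := (129688300, 5, 5, 2)
def rest_617 : ℕ × ℕ × ℕ × ℕ := (237744325, 5, 6, 2)
def rest_618 : ℕ × ℕ × ℕ × ℕ := (208099325, 5, 5, 2)
def rest_619 : ℕ × ℕ × ℕ × ℕ := (153017200, 6, 5, 2)
def rest_620 : ℕ × ℕ × ℕ × ℕ := (231428225, 6, 5, 2)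
def rest_621 : ℕ × ℕ × ℕ × ℕ := (176346100, 7, 5, 2)
def rest_622 : ℕ × ℕ × ℕ × ℕ := (199675000, 8, 5, 2)
def rest_623 : ℕ × ℕ × ℕ × ℕ := (223003900, 9, 5, 2)
def rest_624 : ℕ × ℕ × ℕ × ℕ := (15415400, 0, 6, 2)
def rest_625 : ℕ × ℕ × ℕ × ℕ := (181309800, 1, 6, 2)
def rest_626 : ℕ × ℕ × ℕ × ℕ := (123471425, 0, 7, 2)
def rest_627 : ℕ × ℕ × ℕ × ℕ := (231527450, 0, 8, 2)
def rest_628 : ℕ × ℕ × ℕ × ℕ := (93826425, 0, 6, 2)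
def rest_629 : ℕ × ℕ × ℕ × ℕ := (201882450, 0, 7, 2)
def rest_630 : ℕ × ℕ × ℕ × ℕ := (172237450, 0, 6, 2)
def rest_631 : ℕ × ℕ × ℕ × ℕ := (38744300, 1, 6, 2)
def rest_632 : ℕ × ℕ × ℕ × ℕ := (204638700, 2, 6, 2)
def rest_633 : ℕ × ℕ × ℕ × ℕ := (146800325, 1, 7, 2)
def rest_634 : ℕ × ℕ × ℕ × ℕ := (117155325, 1, 6, 2)
def rest_635 : ℕ × ℕ × ℕ × ℕ := (225211350, 1, 7, 2)
def rest_636 : ℕ × ℕ × ℕ × ℕ := (195566350, 1, 6, 2)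
def rest_637 : ℕ × ℕ × ℕ × ℕ := (62073200, 2, 6, 2)
def rest_638 : ℕ × ℕ × ℕ × ℕ := (227967600, 3, 6, 2)
def rest_639 : ℕ × ℕ × ℕ × ℕ := (170129225, 2, 7, 2)
def rest_640 : ℕ × ℕ × ℕ × ℕ := (140484225, 2, 6, 2)
def rest_641 : ℕ × ℕ × ℕ × ℕ := (218895250, 2, 6, 2)
def rest_642 : ℕ × ℕ × ℕ × ℕ := (85402100, 3, 6, 2)
def rest_643 : ℕ × ℕ × ℕ × ℕ := (193458125, 3, 7, 2)
def rest_644 : ℕ × ℕ × ℕ × ℕ := (163813125, 3, 6, 2)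
def rest_645 : ℕ × ℕ × ℕ × ℕ := (242224150, 3, 6, 2)
def rest_646 : ℕ × ℕ × ℕ × ℕ := (108731000, 4, 6, 2)
def rest_647 : ℕ × ℕ × ℕ × ℕ := (216787025, 4, 7, 2)
def rest_648 : ℕ × ℕ × ℕ × ℕ := (187142025, 4, 6, 2)
def rest_649 : ℕ × ℕ × ℕ × ℕ := (132059900, 5, 6, 2)
def rest_650 : ℕ × ℕ × ℕ × ℕ := (240115925, 5, 7, 2)
def rest_651 : ℕ × ℕ × ℕ × ℕ := (210470925, 5, 6, 2)
def rest_652 : ℕ × ℕ × ℕ × ℕ := (155388800, 6, 6, 2)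
def rest_653 : ℕ × ℕ × ℕ × ℕ := (233799825, 6, 6, 2)
def rest_654 : ℕ × ℕ × ℕ × ℕ := (178717700, 7, 6, 2)
def rest_655 : ℕ × ℕ × ℕ × ℕ := (202046600, 8, 6, 2)
def rest_656 : ℕ × ℕ × ℕ × ℕ := (225375500, 9, 6, 2)
def rest_657 : ℕ × ℕ × ℕ × ℕ := (17787000, 0, 7, 2)
def rest_658 : ℕ × ℕ × ℕ × ℕ := (183681400, 1, 7, 2)
def rest_659 : ℕ × ℕ × ℕ × ℕ := (125843025, 0, 8, 2)
def rest_660 : ℕ × ℕ × ℕ × ℕ := (233899050, 0, 9, 2)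
def rest_661 : ℕ × ℕ × ℕ × ℕ := (96198025, 0, 7, 2)
def rest_662 : ℕ × ℕ × ℕ × ℕ := (204254050, 0, 8, 2)
def rest_663 : ℕ × ℕ × ℕ × ℕ := (174609050, 0, 7, 2)
def rest_664 : ℕ × ℕ × ℕ × ℕ := (41115900, 1, 7, 2)
def rest_665 : ℕ × ℕ × ℕ × ℕ := (207010300, 2, 7, 2)
def rest_666 : ℕ × ℕ × ℕ × ℕ := (149171925, 1, 8, 2)
def rest_667 : ℕ × ℕ × ℕ × ℕ := (119526925, 1, 7, 2)
def rest_668 : ℕ × ℕ × ℕ × ℕ := (227582950, 1, 8, 2)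
def rest_669 : ℕ × ℕ × ℕ × ℕ := (197937950, 1, 7, 2)
def rest_670 : ℕ × ℕ × ℕ × ℕ := (64444800, 2, 7, 2)
def rest_671 : ℕ × ℕ × ℕ × ℕ := (230339200, 3, 7, 2)
def rest_672 : ℕ × ℕ × ℕ × ℕ := (172500825, 2, 8, 2)
def rest_673 : ℕ × ℕ × ℕ × ℕ := (142855825, 2, 7, 2)
def rest_674 : ℕ × ℕ × ℕ × ℕ := (221266850, 2, 7, 2)
def rest_675 : ℕ × ℕ × ℕ × ℕ := (87773700, 3, 7, 2)
def rest_676 : ℕ × ℕ × ℕ × ℕ := (195829725, 3, 8, 2)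
def rest_677 : ℕ × ℕ × ℕ × ℕ := (166184725, 3, 7, 2)
def rest_678 : ℕ × ℕ × ℕ × ℕ := (244595750, 3, 7, 2)
def rest_679 : ℕ × ℕ × ℕ × ℕ := (111102600, 4, 7, 2)
def rest_680 : ℕ × ℕ × ℕ × ℕ := (219158625, 4, 8, 2)
def rest_681 : ℕ × ℕ × ℕ × ℕ := (189513625, 4, 7, 2)
def rest_682 : ℕ × ℕ × ℕ × ℕ := (134431500, 5, 7, 2)
def rest_683 : ℕ × ℕ × ℕ × ℕ := (242487525, 5, 8, 2)
def rest_684 : ℕ × ℕ × ℕ × ℕ := (212842525, 5, 7, 2)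
def rest_685 : ℕ × ℕ × ℕ × ℕ := (157760400, 6, 7, 2)
def rest_686 : ℕ × ℕ × ℕ × ℕ := (236171425, 6, 7, 2)
def rest_687 : ℕ × ℕ × ℕ × ℕ := (181089300, 7, 7, 2)
def rest_688 : ℕ × ℕ × ℕ × ℕ := (204418200, 8, 7, 2)
def rest_689 : ℕ × ℕ × ℕ × ℕ := (227747100, 9, 7, 2)
def rest_690 : ℕ × ℕ × ℕ × ℕ := (20158600, 0, 8, 2)
def rest_691 : ℕ × ℕ × ℕ × ℕ := (186053000, 1, 8, 2)
def rest_692 : ℕ × ℕ × ℕ × ℕ := (128214625, 0, 9, 2)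
def rest_693 : ℕ × ℕ × ℕ × ℕ := (236270650, 0, 10, 2)
def rest_694 : ℕ × ℕ × ℕ × ℕ := (98569625, 0, 8, 2)
def rest_695 : ℕ × ℕ × ℕ × ℕ := (206625650, 0, 9, 2)
def rest_696 : ℕ × ℕ × ℕ × ℕ := (176980650, 0, 8, 2)
def rest_697 : ℕ × ℕ × ℕ × ℕ := (43487500, 1, 8, 2)
def rest_698 : ℕ × ℕ × ℕ × ℕ := (209381900, 2, 8, 2)
def rest_699 : ℕ × ℕ × ℕ × ℕ := (151543525, 1, 9, 2)
def rest_700 : ℕ × ℕ × ℕ × ℕ := (121898525, 1, 8, 2)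
def rest_701 : ℕ × ℕ × ℕ × ℕ := (229954550, 1, 9, 2)
def rest_702 : ℕ × ℕ × ℕ × ℕ := (200309550, 1, 8, 2)
def rest_703 : ℕ × ℕ × ℕ × ℕ := (66816400, 2, 8, 2)
def rest_704 : ℕ × ℕ × ℕ × ℕ := (232710800, 3, 8, 2)
def rest_705 : ℕ × ℕ × ℕ × ℕ := (174872425, 2, 9, 2)
def rest_706 : ℕ × ℕ × ℕ × ℕ := (145227425, 2, 8, 2)
def rest_707 : ℕ × ℕ × ℕ × ℕ := (223638450, 2, 8, 2)
def rest_708 : ℕ × ℕ × ℕ × ℕ := (90145300, 3, 8, 2)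
def rest_709 : ℕ × ℕ × ℕ × ℕ := (198201325, 3, 9, 2)
def rest_710 : ℕ × ℕ × ℕ × ℕ := (168556325, 3, 8, 2)
def rest_711 : ℕ × ℕ × ℕ × ℕ := (113474200, 4, 8, 2)
def rest_712 : ℕ × ℕ × ℕ × ℕ := (221530225, 4, 9, 2)
def rest_713 : ℕ × ℕ × ℕ × ℕ := (191885225, 4, 8, 2)
def rest_714 : ℕ × ℕ × ℕ × ℕ := (136803100, 5, 8, 2)
def rest_715 : ℕ × ℕ × ℕ × ℕ := (215214125, 5, 8, 2)
def rest_716 : ℕ × ℕ × ℕ × ℕ := (160132000, 6, 8, 2)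
def rest_717 : ℕ × ℕ × ℕ × ℕ := (238543025, 6, 8, 2)
def rest_718 : ℕ × ℕ × ℕ × ℕ := (183460900, 7, 8, 2)
def rest_719 : ℕ × ℕ × ℕ × ℕ := (206789800, 8, 8, 2)
def rest_720 : ℕ × ℕ × ℕ × ℕ := (230118700, 9, 8, 2)
def rest_721 : ℕ × ℕ × ℕ × ℕ := (22530200, 0, 9, 2)
def rest_722 : ℕ × ℕ × ℕ × ℕ := (188424600, 1, 9, 2)
def rest_723 : ℕ × ℕ × ℕ × ℕ := (130586225, 0, 10, 2)
def rest_724 : ℕ × ℕ × ℕ × ℕ := (238642250, 0, 11, 2)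
def rest_725 : ℕ × ℕ × ℕ × ℕ := (100941225, 0, 9, 2)
def rest_726 : ℕ × ℕ × ℕ × ℕ := (208997250, 0, 10, 2)
def rest_727 : ℕ × ℕ × ℕ × ℕ := (179352250, 0, 9, 2)
def rest_728 : ℕ × ℕ × ℕ × ℕ := (45859100, 1, 9, 2)
def rest_729 : ℕ × ℕ × ℕ × ℕ := (211753500, 2, 9, 2)
def rest_730 : ℕ × ℕ × ℕ × ℕ := (153915125, 1, 10, 2)
def rest_731 : ℕ × ℕ × ℕ × ℕ := (124270125, 1, 9, 2)
def rest_732 : ℕ × ℕ × ℕ × ℕ := (232326150, 1, 10, 2)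
def rest_733 : ℕ × ℕ × ℕ × ℕ := (202681150, 1, 9, 2)
def rest_734 : ℕ × ℕ × ℕ × ℕ := (69188000, 2, 9, 2)
def rest_735 : ℕ × ℕ × ℕ × ℕ := (235082400, 3, 9, 2)
def rest_736 : ℕ × ℕ × ℕ × ℕ := (177244025, 2, 10, 2)
def rest_737 : ℕ × ℕ × ℕ × ℕ := (147599025, 2, 9, 2)
def rest_738 : ℕ × ℕ × ℕ × ℕ := (226010050, 2, 9, 2)
def rest_739 : ℕ × ℕ × ℕ × ℕ := (92516900, 3, 9, 2)
def rest_740 : ℕ × ℕ × ℕ × ℕ := (200572925, 3, 10, 2)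
def rest_741 : ℕ × ℕ × ℕ × ℕ := (170927925, 3, 9, 2)
def rest_742 : ℕ × ℕ × ℕ × ℕ := (115845800, 4, 9, 2)
def rest_743 : ℕ × ℕ × ℕ × ℕ := (223901825, 4, 10, 2)
def rest_744 : ℕ × ℕ × ℕ × ℕ := (194256825, 4, 9, 2)
def rest_745 : ℕ × ℕ × ℕ × ℕ := (139174700, 5, 9, 2)
def rest_746 : ℕ × ℕ × ℕ × ℕ := (217585725, 5, 9, 2)
def rest_747 : ℕ × ℕ × ℕ × ℕ := (162503600, 6, 9, 2)
def rest_748 : ℕ × ℕ × ℕ × ℕ := (240914625, 6, 9, 2)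
def rest_749 : ℕ × ℕ × ℕ × ℕ := (185832500, 7, 9, 2)
def rest_750 : ℕ × ℕ × ℕ × ℕ := (209161400, 8, 9, 2)
def rest_751 : ℕ × ℕ × ℕ × ℕ := (232490300, 9, 9, 2)
def rest_752 : ℕ × ℕ × ℕ × ℕ := (24901800, 0, 10, 2)
def rest_753 : ℕ × ℕ × ℕ × ℕ := (190796200, 1, 10, 2)
def rest_754 : ℕ × ℕ × ℕ × ℕ := (132957825, 0, 11, 2)
def rest_755 : ℕ × ℕ × ℕ × ℕ := (103312825, 0, 10, 2)
def rest_756 : ℕ × ℕ × ℕ × ℕ := (211368850, 0, 11, 2)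
def rest_757 : ℕ × ℕ × ℕ × ℕ := (181723850, 0, 10, 2)
def rest_758 : ℕ × ℕ × ℕ × ℕ := (48230700, 1, 10, 2)
def rest_759 : ℕ × ℕ × ℕ × ℕ := (214125100, 2, 10, 2)
def rest_760 : ℕ × ℕ × ℕ × ℕ := (156286725, 1, 11, 2)
def rest_761 : ℕ × ℕ × ℕ × ℕ := (126641725, 1, 10, 2)
def rest_762 : ℕ × ℕ × ℕ × ℕ := (234697750, 1, 11, 2)
def rest_763 : ℕ × ℕ × ℕ × ℕ := (205052750, 1, 10, 2)
def rest_764 : ℕ × ℕ × ℕ × ℕ := (71559600, 2, 10, 2)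
def rest_765 : ℕ × ℕ × ℕ × ℕ := (237454000, 3, 10, 2)
def rest_766 : ℕ × ℕ × ℕ × ℕ := (179615625, 2, 11, 2)
def rest_767 : ℕ × ℕ × ℕ × ℕ := (149970625, 2, 10, 2)
def rest_768 : ℕ × ℕ × ℕ × ℕ := (228381650, 2, 10, 2)
def rest_769 : ℕ × ℕ × ℕ × ℕ := (94888500, 3, 10, 2)
def rest_770 : ℕ × ℕ × ℕ × ℕ := (202944525, 3, 11, 2)
def rest_771 : ℕ × ℕ × ℕ × ℕ := (173299525, 3, 10, 2)
def rest_772 : ℕ × ℕ × ℕ × ℕ := (118217400, 4, 10, 2)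
def rest_773 : ℕ × ℕ × ℕ × ℕ := (226273425, 4, 11, 2)
def rest_774 : ℕ × ℕ × ℕ × ℕ := (196628425, 4, 10, 2)
def rest_775 : ℕ × ℕ × ℕ × ℕ := (141546300, 5, 10, 2)
def rest_776 : ℕ × ℕ × ℕ × ℕ := (219957325, 5, 10, 2)
def rest_777 : ℕ × ℕ × ℕ × ℕ := (164875200, 6, 10, 2)
def rest_778 : ℕ × ℕ × ℕ × ℕ := (243286225, 6, 10, 2)
def rest_779 : ℕ × ℕ × ℕ × ℕ := (188204100, 7, 10, 2)
def rest_780 : ℕ × ℕ × ℕ × ℕ := (211533000, 8, 10, 2)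
def rest_781 : ℕ × ℕ × ℕ × ℕ := (234861900, 9, 10, 2)
def rest_782 : ℕ × ℕ × ℕ × ℕ := (27273400, 0, 11, 2)
def rest_783 : ℕ × ℕ × ℕ × ℕ := (193167800, 1, 11, 2)
def rest_784 : ℕ × ℕ × ℕ × ℕ := (105684425, 0, 11, 2)
def rest_785 : ℕ × ℕ × ℕ × ℕ := (184095450, 0, 11, 2)
def rest_786 : ℕ × ℕ × ℕ × ℕ := (50602300, 1, 11, 2)
def rest_787 : ℕ × ℕ × ℕ × ℕ := (216496700, 2, 11, 2)
def rest_788 : ℕ × ℕ × ℕ × ℕ := (129013325, 1, 11, 2)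
def rest_789 : ℕ × ℕ × ℕ × ℕ := (207424350, 1, 11, 2)
def rest_790 : ℕ × ℕ × ℕ × ℕ := (73931200, 2, 11, 2)
def rest_791 : ℕ × ℕ × ℕ × ℕ := (239825600, 3, 11, 2)
def rest_792 : ℕ × ℕ × ℕ × ℕ := (152342225, 2, 11, 2)
def rest_793 : ℕ × ℕ × ℕ × ℕ := (230753250, 2, 11, 2)
def rest_794 : ℕ × ℕ × ℕ × ℕ := (97260100, 3, 11, 2)
def rest_795 : ℕ × ℕ × ℕ × ℕ := (175671125, 3, 11, 2)
def rest_796 : ℕ × ℕ × ℕ × ℕ := (120589000, 4, 11, 2)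
def rest_797 : ℕ × ℕ × ℕ × ℕ := (199000025, 4, 11, 2)
def rest_798 : ℕ × ℕ × ℕ × ℕ := (143917900, 5, 11, 2)
def rest_799 : ℕ × ℕ × ℕ × ℕ := (222328925, 5, 11, 2)
def rest_800 : ℕ × ℕ × ℕ × ℕ := (167246800, 6, 11, 2)
def rest_801 : ℕ × ℕ × ℕ × ℕ := (190575700, 7, 11, 2)
def rest_802 : ℕ × ℕ × ℕ × ℕ := (213904600, 8, 11, 2)
def rest_803 : ℕ × ℕ × ℕ × ℕ := (237233500, 9, 11, 2)

def restTable : List (List (List (ℕ × ℕ × ℕ × ℕ))) :=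
 [[[rest_0, rest_59, rest_193, rest_471],
  [rest_250, rest_370, rest_612, rest_654, rest_732],
  [rest_106, rest_405, rest_463, rest_594],
  [rest_244, rest_286, rest_362, rest_651, rest_770],
  [rest_40, rest_98, rest_226, rest_508],
  [rest_283, rest_645, rest_687, rest_762],
  [rest_143, rest_444, rest_500, rest_627],
  [rest_277, rest_318, rest_684],
  [rest_37, rest_79, rest_135, rest_259, rest_545],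
  [rest_315, rest_678, rest_718],
  [rest_34, rest_179, rest_441, rest_482, rest_537, rest_660],
  [rest_349, rest_715],
  [rest_76, rest_117, rest_172, rest_292, rest_438, rest_580],
  [rest_12, rest_346, rest_749],
  [rest_73, rest_213, rest_479, rest_519, rest_573, rest_693],
  [rest_379, rest_416, rest_746]],
 [[rest_114, rest_154, rest_324, rest_477, rest_614],
  [rest_51, rest_376, rest_779],
  [rest_112, rest_246, rest_516, rest_556, rest_724],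
  [rest_402, rest_455, rest_776],
  [rest_151, rest_190, rest_514, rest_647],
  [rest_90, rest_399, rest_801],
  [rest_149, rest_279, rest_553, rest_591],
  [rest_799],
  [rest_187, rest_223, rest_551, rest_680],
  [],
  [rest_185, rest_311, rest_588, rest_624],
  [rest_31],
  [rest_221, rest_256, rest_586, rest_712],
  [rest_435],
  [rest_219, rest_343, rest_622, rest_657],
  [rest_70]],
 [[rest_254, rest_289, rest_620, rest_743],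
  [rest_9, rest_474],
  [rest_252, rest_373, rest_655, rest_690],
  [rest_109, rest_413],
  [rest_287, rest_321, rest_653, rest_773],
  [rest_48, rest_511],
  [rest_285, rest_688, rest_721],
  [rest_146, rest_452],
  [rest_319, rest_352, rest_686],
  [rest_38, rest_87, rest_548],
  [rest_317, rest_719, rest_752],
  [rest_36, rest_182, rest_442, rest_490],
  [rest_350, rest_382, rest_717],
  [rest_77, rest_125, rest_440, rest_583],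
  [rest_348, rest_750, rest_782],
  [rest_75, rest_216, rest_480, rest_527]],
 [[rest_380, rest_748],
  [rest_115, rest_162, rest_617],
  [rest_378, rest_780],
  [rest_249, rest_517, rest_563],
  [rest_403, rest_778],
  [rest_152, rest_197, rest_650],
  [rest_401, rest_802],
  [rest_282, rest_554, rest_598],
  [],
  [rest_188, rest_230, rest_683],
  [],
  [rest_314, rest_589, rest_631],
  [],
  [rest_222, rest_263],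
  [],
  [rest_623, rest_664]],
 [[rest_1],
  [rest_255, rest_296],
  [rest_16, rest_406],
  [rest_656, rest_697],
  [rest_4, rest_41, rest_420],
  [rest_288, rest_328],
  [rest_55, rest_409, rest_445],
  [rest_689, rest_728],
  [rest_44, rest_80, rest_459],
  [rest_320, rest_358],
  [rest_39, rest_94, rest_448, rest_483],
  [rest_720, rest_758],
  [rest_83, rest_118, rest_443, rest_496],
  [rest_351, rest_386],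
  [rest_78, rest_131, rest_486, rest_520],
  [rest_751, rest_786]],
 [[rest_121, rest_155, rest_481, rest_533],
  [rest_381],
  [rest_116, rest_168, rest_523, rest_557],
  [rest_781],
  [rest_158, rest_191, rest_518, rest_569],
  [rest_404],
  [rest_153, rest_203, rest_560, rest_592],
  [rest_803],
  [rest_194, rest_224, rest_555, rest_604],
  [],
  [rest_189, rest_236, rest_595, rest_625],
  [],
  [rest_227, rest_257, rest_590, rest_637],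
  [],
  [rest_269, rest_628, rest_658],
  []],
 [[rest_260, rest_290, rest_670],
  [rest_10],
  [rest_302, rest_661, rest_691],
  [rest_22, rest_414],
  [rest_293, rest_322, rest_703],
  [rest_13, rest_49, rest_426],
  [rest_334, rest_694, rest_722],
  [rest_61, rest_417, rest_453],
  [rest_325, rest_353, rest_734],
  [rest_52, rest_88, rest_465],
  [rest_364, rest_725, rest_753],
  [rest_100, rest_456, rest_491],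
  [rest_355, rest_383, rest_764],
  [rest_91, rest_126, rest_502],
  [rest_390, rest_755, rest_783],
  [rest_137, rest_493, rest_528]],
 [[rest_384, rest_790],
  [rest_128, rest_163, rest_539],
  [rest_784],
  [rest_174, rest_530, rest_564],
  [],
  [rest_165, rest_198, rest_575],
  [rest_2],
  [rest_208, rest_566, rest_599],
  [rest_407],
  [rest_200, rest_231, rest_609],
  [rest_42],
  [rest_241, rest_601, rest_632],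
  [rest_446],
  [rest_233, rest_264, rest_642],
  [rest_81],
  [rest_274, rest_634, rest_665]],
 [[rest_484],
  [rest_266, rest_297, rest_675],
  [rest_17, rest_119],
  [rest_307, rest_667, rest_698],
  [rest_5, rest_27, rest_421, rest_521],
  [rest_299, rest_329, rest_708],
  [rest_19, rest_56, rest_156, rest_431],
  [rest_339, rest_700, rest_729],
  [rest_7, rest_66, rest_423, rest_460, rest_558],
  [rest_331, rest_359, rest_739],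
  [rest_58, rest_95, rest_192, rest_411, rest_470],
  [rest_369, rest_731, rest_759],
  [rest_46, rest_105, rest_462, rest_497, rest_593],
  [rest_361, rest_387, rest_769],
  [rest_97, rest_132, rest_225, rest_450, rest_507],
  [rest_394, rest_761, rest_787]],
 [[rest_85, rest_142, rest_499, rest_534, rest_626],
  [rest_388, rest_794],
  [rest_134, rest_169, rest_258, rest_488, rest_544],
  [rest_788],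
  [rest_123, rest_178, rest_536, rest_570, rest_659],
  [],
  [rest_171, rest_204, rest_291, rest_525, rest_579],
  [rest_11],
  [rest_160, rest_212, rest_572, rest_605, rest_692],
  [rest_415],
  [rest_206, rest_237, rest_323, rest_562, rest_613],
  [rest_50],
  [rest_196, rest_245, rest_607, rest_638, rest_723],
  [rest_454],
  [rest_239, rest_270, rest_354, rest_597, rest_646],
  [rest_89]],
 [[rest_229, rest_278, rest_640, rest_671, rest_754],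
  [rest_492],
  [rest_272, rest_303, rest_630, rest_679],
  [rest_23, rest_127],
  [rest_262, rest_310, rest_673, rest_704],
  [rest_30, rest_427, rest_529],
  [rest_305, rest_335, rest_663, rest_711],
  [rest_25, rest_62, rest_164, rest_434],
  [rest_295, rest_342, rest_706, rest_735],
  [rest_15, rest_69, rest_429, rest_466, rest_565],
  [rest_337, rest_365, rest_696, rest_742],
  [rest_64, rest_101, rest_199, rest_419, rest_473],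
  [rest_327, rest_372, rest_737, rest_765],
  [rest_54, rest_108, rest_468, rest_503, rest_600],
  [rest_367, rest_391, rest_727, rest_772],
  [rest_103, rest_138, rest_232, rest_458, rest_510]],
 [[rest_357, rest_396, rest_767, rest_791],
  [rest_93, rest_145, rest_505, rest_540, rest_633],
  [rest_392, rest_757, rest_796],
  [rest_140, rest_265, rest_495, rest_547],
  [rest_385, rest_792],
  [rest_130, rest_181, rest_542, rest_666],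
  [rest_785],
  [rest_176, rest_298, rest_532, rest_582],
  [rest_18],
  [rest_167, rest_215, rest_577, rest_699],
  [rest_6, rest_422],
  [rest_210, rest_330, rest_568, rest_616],
  [rest_57, rest_410],
  [rest_202, rest_248, rest_611, rest_730],
  [rest_45, rest_461],
  [rest_243, rest_360, rest_603, rest_649]],
 [[rest_96, rest_449],
  [rest_235, rest_281, rest_644, rest_760],
  [rest_84, rest_498],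
  [rest_276, rest_636, rest_682],
  [rest_133, rest_487],
  [rest_268, rest_313, rest_677],
  [rest_33, rest_122, rest_535],
  [rest_309, rest_669, rest_714],
  [rest_29, rest_170, rest_437, rest_524],
  [rest_301, rest_345, rest_710],
  [rest_21, rest_72, rest_159, rest_433, rest_571],
  [rest_341, rest_702, rest_745],
  [rest_8, rest_68, rest_205, rest_425, rest_476, rest_561],
  [rest_333, rest_375, rest_741],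
  [rest_60, rest_111, rest_195, rest_412, rest_472, rest_606],
  [rest_371, rest_733, rest_775]],
 [[rest_47, rest_107, rest_238, rest_464, rest_513, rest_596],
  [rest_363, rest_398, rest_771],
  [rest_99, rest_148, rest_228, rest_451, rest_509, rest_639],
  [rest_395, rest_763, rest_798],
  [rest_86, rest_144, rest_271, rest_501, rest_550, rest_629],
  [rest_389, rest_795],
  [rest_136, rest_184, rest_261, rest_489, rest_546, rest_672],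
  [rest_789],
  [rest_124, rest_180, rest_304, rest_538, rest_585, rest_662],
  [rest_24],
  [rest_173, rest_218, rest_294, rest_526, rest_581, rest_705],
  [rest_14, rest_428],
  [rest_161, rest_214, rest_336, rest_574, rest_619, rest_695],
  [rest_63, rest_418],
  [rest_207, rest_251, rest_326, rest_615, rest_736],
  [rest_53, rest_467]],
 [[rest_247, rest_366, rest_608, rest_652, rest_726],
  [rest_102, rest_457],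
  [rest_240, rest_284, rest_356, rest_648, rest_766],
  [rest_92, rest_504],
  [rest_280, rest_641, rest_685, rest_756],
  [rest_139, rest_494],
  [rest_273, rest_316, rest_681],
  [rest_35, rest_129, rest_541],
  [rest_312, rest_674, rest_716],
  [rest_32, rest_175, rest_439, rest_531],
  [rest_306, rest_347, rest_713],
  [rest_26, rest_74, rest_166, rest_436, rest_576],
  [rest_3, rest_344, rest_707, rest_747],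
  [rest_71, rest_209, rest_430, rest_478, rest_567],
  [rest_338, rest_377, rest_408, rest_744],
  [rest_65, rest_113, rest_201, rest_475, rest_610]],
 [[rest_43, rest_374, rest_738, rest_777],
  [rest_110, rest_242, rest_469, rest_515, rest_602],
  [rest_368, rest_400, rest_447, rest_774],
  [rest_104, rest_150, rest_234, rest_512, rest_643],
  [rest_82, rest_397, rest_768, rest_800],
  [rest_147, rest_275, rest_506, rest_552, rest_635],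
  [rest_393, rest_485, rest_797],
  [rest_141, rest_186, rest_267, rest_549, rest_676],
  [rest_120, rest_793],
  [rest_183, rest_308, rest_543, rest_587, rest_668],
  [rest_28, rest_522],
  [rest_177, rest_220, rest_300, rest_584, rest_709],
  [rest_20, rest_157, rest_432],
  [rest_217, rest_340, rest_578, rest_621, rest_701],
  [rest_67, rest_424, rest_559],
  [rest_211, rest_253, rest_332, rest_618, rest_740]]]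

end Cfsg.Lib.MTwentyFour.Search
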